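import Cfsg.Agent.Lib.Blocks.IsoBlocks
import Cfsg.Agent.Lib.CT.Orthogonality

/-!
# Characters over a stable character of a normal subgroup: operators given by traces

The group algebra of a subgroup (given by a homomorphism) inside that of the group, elements acting
as scalars on an irreducible character, and Schur's trace relation.
-/

set_option autoImplicit false
set_option linter.unusedSectionVars false
set_option linter.style.haveILetI false

namespace Cfsg.Agent.RelUnion

open Cfsg.Agent Blocks Blocks.IsoBlocks MonoidAlgebra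
open scoped ComplexConjugate

universe u v

section Emb

variable {R : Type v} [CommRing R] {G H K : Type u} [Group G] [Group H] [Group K]

/-- The map of group algebras of a homomorphism. -/
noncomputable def emb (j : K →* G) : MonoidAlgebra R K →+* MonoidAlgebra R G :=
  mapDomainRingHom R j

theorem emb_single (j : K →* G) (k : K) (r : R) : emb j (single k r) = single (j k) r := by
  simp [emb]

theorem emb_emb (j : H →* G) (i : K →* H) (a : MonoidAlgebra R K) :
    emb j (emb i a) = emb (j.comp i) a := by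
  induction a using MonoidAlgebra.induction_linear with
  | zero => simp
  | add x y hx hy => simp only [map_add, hx, hy]
  | single m r => simp [emb_single]

theorem ev_emb (j : K →* G) (T : G → R) (a : MonoidAlgebra R K) :
    ev T (emb j a) = ev (fun k => T (j k)) a := by
  induction a using MonoidAlgebra.induction_linear with
  | zero => simp
  | add x y hx hy => rw [map_add, ev_add, hx, hy, ev_add]
  | single m r => simp [emb_single]

theorem coeff_emb {j : K →* G} (hj : Function.Injective j) (a : MonoidAlgebra R K) (k : K) :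
    (emb j a).coeff (j k) = a.coeff k :=
  Finsupp.mapDomain_apply hj a.coeff k

theorem coeff_emb_of_notMem (j : K →* G) (a : MonoidAlgebra R K) {u : G} (hu : ∀ k, j k ≠ u) :
    (emb j a).coeff u = 0 :=
  Finsupp.mapDomain_of_notMem_range a.coeff u (by rintro ⟨k, rfl⟩; exact hu k rfl)

theorem map_emb {S : Type*} [CommRing S] (f : R →+* S) (j : K →* G) (a : MonoidAlgebra R K) :
    mapRingHom G f (emb j a) = emb j (mapRingHom K f a) := by
  induction a using MonoidAlgebra.induction_linear with
  | zero => simp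
  | add x y hx hy => simp only [map_add, hx, hy]
  | single m r => simp [emb_single]

theorem emb_eq_sum [Fintype K] (j : K →* G) (a : MonoidAlgebra R K) :
    emb j a = ∑ k, single (j k) (a.coeff k) := by
  conv_lhs => rw [eq_sum_single a, map_sum]
  exact Finset.sum_congr rfl fun k _ => emb_single j k _

theorem ev_mul_emb [Fintype K] (j : K →* G) (T : G → R) (b : MonoidAlgebra R G)
    (a : MonoidAlgebra R K) :
    ev T (b * emb j a) = ∑ k, a.coeff k * ev T (b * single (j k) 1) := by
  rw [emb_eq_sum, Finset.mul_sum, ev_sum]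
  refine Finset.sum_congr rfl fun k _ => ?_
  rw [ev_mul_single, ev_mul_single, one_mul]

end Emb

section Acts

variable {G : Type u} [Group G] [Fintype G]

/-- The element `a` acts as the scalar `s` on `χ`, tested by traces. -/
def Acts (χ : G → ℂ) (a : MonoidAlgebra ℂ G) (s : ℂ) : Prop :=
  ∀ b, ev χ (b * a) = s * ev χ b

variable {χ : G → ℂ}

theorem Acts.mul {a a' : MonoidAlgebra ℂ G} {s s' : ℂ} (h : Acts χ a s) (h' : Acts χ a' s') :
    Acts χ (a * a') (s * s') := fun b => by
  rw [← mul_assoc, h', h]; ring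

theorem Acts.sum {ι : Type*} (t : Finset ι) {a : ι → MonoidAlgebra ℂ G} {s : ι → ℂ}
    (h : ∀ i ∈ t, Acts χ (a i) (s i)) : Acts χ (∑ i ∈ t, a i) (∑ i ∈ t, s i) := fun b => by
  rw [Finset.mul_sum, ev_sum, Finset.sum_mul]
  exact Finset.sum_congr rfl fun i hi => h i hi b

theorem Acts.one : Acts χ (1 : MonoidAlgebra ℂ G) 1 := fun b => by rw [mul_one, one_mul]

theorem Acts.zero : Acts χ (0 : MonoidAlgebra ℂ G) 0 := fun b => by
  rw [mul_zero, ev_zero, zero_mul]

theorem Acts.ev_eq {a : MonoidAlgebra ℂ G} {s : ℂ} (h : Acts χ a s) : ev χ a = s * χ 1 := by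
  have := h 1
  rwa [one_mul, ev_one] at this

theorem Acts.left (hχ : IsClassFn χ) {a : MonoidAlgebra ℂ G} {s : ℂ} (h : Acts χ a s)
    (b : MonoidAlgebra ℂ G) : ev χ (a * b) = s * ev χ b := by rw [ev_mul_comm hχ]; exact h b

theorem acts_central {χ : G → ℂ} (hχ : Cfsg.IsIrrCharacter G χ) {a : MonoidAlgebra ℂ G}
    (ha : a ∈ Subring.center (MonoidAlgebra ℂ G)) : Acts χ a (omega χ a) := fun b => by
  rw [Subring.mem_center_iff.mp ha b]
  exact ev_central_mul hχ ha b

/-- An idempotent of trace zero acts as zero. -/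
theorem acts_zero_of_idem {χ : G → ℂ} (hχ : Cfsg.IsCharacter G χ) {y : MonoidAlgebra ℂ G}
    (hy : y * y = y) (h0 : ev χ y = 0) : Acts χ y 0 := by
  obtain ⟨n, ρ, rfl⟩ := hχ
  have htr := (LinearMap.IsIdempotentElem.isProj_range (ρ.asAlgebraHom y)
    (by rw [IsIdempotentElem, ← map_mul, hy])).trace
  rw [trace_op, h0] at htr
  have hrank : Module.finrank ℂ (LinearMap.range (ρ.asAlgebraHom y)) = 0 := by
    exact_mod_cast htr.symm
  have h : ρ.asAlgebraHom y = 0 :=
    LinearMap.range_eq_bot.mp (Submodule.finrank_eq_zero.mp hrank)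
  intro b
  rw [zero_mul, ← trace_op, map_mul, h, mul_zero, map_zero]

/-- An idempotent of full trace acts as one. -/
theorem acts_one_of_idem {χ : G → ℂ} (hχ : Cfsg.IsCharacter G χ) {y : MonoidAlgebra ℂ G}
    (hy : y * y = y) (h1 : ev χ y = χ 1) : Acts χ y 1 := by
  have h := acts_zero_of_idem hχ (y := 1 - y) (by simp [mul_sub, sub_mul, hy])
    (by rw [ev_sub, ev_one, h1, sub_self])
  intro b
  have := h b
  rw [mul_sub, mul_one, ev_sub, zero_mul, sub_eq_zero] at this
  rw [one_mul, this]

/-- Elements with the same trace form on every irreducible character are equal. -/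
theorem ext_ev {x y : MonoidAlgebra ℂ G}
    (h : ∀ (χ : Cfsg.IrrCharacter G) (b : MonoidAlgebra ℂ G),
      ev (χ : G → ℂ) (b * x) = ev (χ : G → ℂ) (b * y)) : x = y := by
  classical
  ext u
  have key : ∀ a : MonoidAlgebra ℂ G,
      ∑ χ : Cfsg.IrrCharacter G, ev (χ : G → ℂ) (single u⁻¹ 1 * a) * conj ((χ : G → ℂ) 1) =
        (Nat.card G : ℂ) * a.coeff u := by
    intro a
    rw [sum_ev_mul_conj, show Subgroup.centralizer ({(1 : G)} : Set G) = ⊤ from
      top_le_iff.mp fun x _ => Subgroup.mem_centralizer_singleton_iff.mpr (by simp), Subgroup.card_top,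
      ev_eq_sum, Finset.sum_eq_single (1 : G)]
    · rw [coeff_single_mul', classInd_self, inv_inv, mul_one, one_mul, mul_one]
    · intro w _ hw
      rw [classInd_neg fun hc => hw (isConj_one_right.mp hc), mul_zero]
    · simp
  have e := key x
  simp only [h] at e
  rw [key y] at e
  exact (mul_left_cancel₀ (CT.card_ne_zero (G := G)) e).symm

theorem acts_idemC {χ : Cfsg.IrrCharacter G} (A : Set (Cfsg.IrrCharacter G))
    [Decidable (χ ∈ A)] : Acts (χ : G → ℂ) (idemC A) (if χ ∈ A then 1 else 0) := by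
  have h := acts_central χ.2 (idemC_mem_center A)
  rw [omega_idemC] at h
  convert h using 2

theorem idemC_mul_self (A : Set (Cfsg.IrrCharacter G)) : idemC A * idemC A = idemC A := by
  classical
  refine ext_ev fun χ b => ?_
  rw [((acts_idemC A).mul (acts_idemC A)) b, acts_idemC A b]
  split_ifs <;> simp

theorem idemC_mul (A B : Set (Cfsg.IrrCharacter G)) : idemC A * idemC B = idemC (A ∩ B) := by
  classical
  refine ext_ev fun χ b => ?_
  rw [((acts_idemC A).mul (acts_idemC B)) b, acts_idemC (A ∩ B) b]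
  by_cases hA : χ ∈ A <;> by_cases hB : χ ∈ B <;> simp [hA, hB]

end Acts

section Schur

variable {K : Type u} [Group K] [Fintype K]

open Classical in
/-- Schur's relation for traces. -/
theorem schur_trace {n : ℕ} (ρ : Representation ℂ K (Fin n → ℂ)) [ρ.IsIrreducible]
    (X Y : Module.End ℂ (Fin n → ℂ)) :
    ∑ k, LinearMap.trace ℂ _ (X * ρ k⁻¹) * LinearMap.trace ℂ _ (Y * ρ k) =
      (Nat.card K : ℂ) / (n : ℂ) * LinearMap.trace ℂ _ (X * Y) := by
  have hav : ∀ A : Module.End ℂ (Fin n → ℂ), ∑ k, ρ k⁻¹ * A * ρ k =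
      ((Nat.card K : ℂ) / (n : ℂ) * LinearMap.trace ℂ _ A) • (1 : Module.End ℂ (Fin n → ℂ)) := by
    intro A
    have hcom : ∀ h, (∑ k, ρ k⁻¹ * A * ρ k) * ρ h = ρ h * ∑ k, ρ k⁻¹ * A * ρ k := by
      intro h
      rw [Finset.sum_mul, Finset.mul_sum]
      refine Fintype.sum_equiv (Equiv.mulRight h) _ _ fun k => ?_
      simp only [Equiv.coe_mulRight]
      rw [mul_assoc _ (ρ k), ← map_mul, ← mul_assoc, ← mul_assoc, ← map_mul, mul_inv_rev,
        mul_inv_cancel_left]
    have htr : LinearMap.trace ℂ _ (∑ k, ρ k⁻¹ * A * ρ k) =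
        (Nat.card K : ℂ) * LinearMap.trace ℂ _ A := by
      rw [map_sum]
      have : ∀ k, LinearMap.trace ℂ _ (ρ k⁻¹ * A * ρ k) = LinearMap.trace ℂ _ A := fun k => by
        rw [LinearMap.trace_mul_comm, ← mul_assoc, ← map_mul, mul_inv_cancel, map_one, one_mul]
      simp [this, Nat.card_eq_fintype_card]
    have := CT.eq_scalar_of_commute ρ _ hcom
    rw [htr, Module.finrank_fin_fun] at this
    rw [this, mul_div_right_comm]
    rfl
  let m : Module.End ℂ (Fin n → ℂ) →ₐ[ℂ] Matrix (Fin n) (Fin n) ℂ :=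
    LinearMap.toMatrixAlgEquiv'.toAlgHom
  have htrace : ∀ A : Module.End ℂ (Fin n → ℂ), LinearMap.trace ℂ _ A = (m A).trace := fun A => by
    rw [LinearMap.trace_eq_matrix_trace ℂ (Pi.basisFun ℂ (Fin n)), LinearMap.toMatrix_eq_toMatrix']
    rfl
  have hE : ∀ i j : Fin n, ∑ k, m (X * ρ k⁻¹) i i * m (Y * ρ k) j j =
      (Nat.card K : ℂ) / (n : ℂ) * (m Y j i * m X i j) := by
    intro i j
    let E : Module.End ℂ (Fin n → ℂ) := Matrix.toLin' (Matrix.single i j (1 : ℂ))
    have hmE : m E = Matrix.single i j (1 : ℂ) := LinearMap.toMatrix'_toLin' _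
    have e1 : ∀ k, m (X * ρ k⁻¹) i i * m (Y * ρ k) j j =
        m (X * (ρ k⁻¹ * (E * Y) * ρ k)) i j := by
      intro k
      rw [show X * (ρ k⁻¹ * (E * Y) * ρ k) = (X * ρ k⁻¹) * E * (Y * ρ k) by simp only [mul_assoc],
        map_mul m (X * ρ k⁻¹ * E), map_mul m (X * ρ k⁻¹) E, hmE]
      rw [Matrix.mul_apply, Finset.sum_eq_single j]
      · rw [Matrix.mul_single_apply_same, mul_one]
      · intro l _ hl
        simp [Matrix.mul_apply, Matrix.single_apply, Ne.symm hl]
      · simp
    rw [Finset.sum_congr rfl fun k _ => e1 k]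
    rw [show ∑ k, m (X * (ρ k⁻¹ * (E * Y) * ρ k)) i j =
        m (X * ∑ k, ρ k⁻¹ * (E * Y) * ρ k) i j by
      rw [Finset.mul_sum, map_sum, Matrix.sum_apply], hav, mul_smul_comm, mul_one, map_smul,
      Matrix.smul_apply, smul_eq_mul, htrace (E * Y), map_mul, hmE, Matrix.trace_single_mul]
    ring
  simp only [htrace]
  calc ∑ k, (m (X * ρ k⁻¹)).trace * (m (Y * ρ k)).trace
      = ∑ i, ∑ j, ∑ k, m (X * ρ k⁻¹) i i * m (Y * ρ k) j j := by
        simp only [Matrix.trace, Matrix.diag, Finset.sum_mul, Finset.mul_sum]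
        rw [Finset.sum_comm]
        refine Eq.trans (Finset.sum_congr rfl fun i _ => Finset.sum_comm) ?_
        exact Finset.sum_comm
    _ = ∑ i, ∑ j, (Nat.card K : ℂ) / (n : ℂ) * (m Y j i * m X i j) :=
        Finset.sum_congr rfl fun i _ => Finset.sum_congr rfl fun j _ => hE i j
    _ = _ := by
        simp only [Matrix.trace, Matrix.diag, map_mul, Matrix.mul_apply, Finset.mul_sum]
        exact Finset.sum_congr rfl fun i _ => Finset.sum_congr rfl fun j _ => by ring

/-- A map with vanishing trace form against an irreducible representation is zero. -/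
theorem eq_zero_of_trace {n : ℕ} (ρ : Representation ℂ K (Fin n → ℂ)) [ρ.IsIrreducible]
    {X : Module.End ℂ (Fin n → ℂ)} (h : ∀ k, LinearMap.trace ℂ _ (X * ρ k) = 0) : X = 0 := by
  have hn : (n : ℂ) ≠ 0 := by
    have := CT.finrank_pos_of_irreducible ρ
    rw [Module.finrank_fin_fun] at this
    exact Nat.cast_ne_zero.mpr this.ne'
  have h1 : ∀ Y, LinearMap.trace ℂ _ (X * Y) = 0 := fun Y => by
    have h2 := schur_trace ρ X Y
    simp only [h, zero_mul, Finset.sum_const_zero] at h2
    exact (mul_eq_zero.mp h2.symm).resolve_left (div_ne_zero CT.card_ne_zero hn)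
  refine LinearMap.toMatrixAlgEquiv'.injective (Matrix.ext fun i j => ?_)
  have h2 := h1 (Matrix.toLin' (Matrix.single j i (1 : ℂ)))
  rw [LinearMap.trace_eq_matrix_trace ℂ (Pi.basisFun ℂ (Fin n)), LinearMap.toMatrix_eq_toMatrix',
    LinearMap.toMatrix'_mul, LinearMap.toMatrix'_toLin', Matrix.trace_mul_single] at h2
  simpa using h2

end Schur

end Cfsg.Agent.RelUnion
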