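import Cfsg.Agent.Lib.Blocks.RelUnion.Basic
import Cfsg.Agent.Lib.Blocks.IdemLift
import Cfsg.Agent.Lib.Blocks.Orthogonality
import Mathlib.RingTheory.Ideal.Maximal
import Mathlib.RingTheory.Polynomial.Basic

/-!
# Idempotents from elements with scalar action
-/

set_option autoImplicit false
set_option linter.unusedSectionVars false
set_option linter.style.haveILetI false

namespace Cfsg.Agent.RelUnion

open Cfsg.Agent Blocks MonoidAlgebra

universe u

variable {G : Type u} [Group G] [Fintype G] {p : ℕ} {M : Ideal Cfsg.AlgInt} [M.IsPrime]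

/-- The traces of an idempotent against class functions vanishing on regular elements vanish. -/
theorem ev_idem_eq_zero (hM : Cfsg.IsPModular p M) {ε : MonoidAlgebra (Loc M) G} (hε : ε * ε = ε)
    {T : G → Loc M} (hT : IsClassFn T) (h : ∀ u, ¬ p ∣ orderOf u → T u = 0) : ev T ε = 0 := by
  haveI : Fact p.Prime := ⟨hM.1⟩
  have h1 := ev_idem_eq_zero_of_ppart hM hT hε (g := 1) (z := 1)
    (isPPart_one (by rw [orderOf_one]; exact hM.1.not_dvd_one))
    (fun c _ hc => by
      rw [Subgroup.zpowers_one_eq_bot, Subgroup.mem_bot] at hc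
      subst hc
      exact (show single (1 : G) (1 : Loc M) = 1 from rfl) ▸ Commute.one_right ε)
    (fun u hu => h u (isPPart_one_iff.mp hu))
  rwa [show single (1 : G) (1 : Loc M) = 1 from rfl, mul_one] at h1

theorem exists_coeff_pow_dvd (hM : Cfsg.IsPModular p M) {x : MonoidAlgebra (Loc M) G}
    (hx : redG M G x = 0) (k : ℕ) : ∃ n, 1 ≤ n ∧ ∀ u, (p : Loc M) ^ k ∣ (x ^ n).coeff u := by
  classical
  set I : Ideal (Loc M) := Ideal.span (Set.range fun u : G => x.coeff u) with hI
  set P : Ideal (Loc M) := Ideal.span {(p : Loc M)}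
  have hfg : I.FG := Submodule.fg_span (Set.finite_range _)
  have hrad : I ≤ P.radical := by
    rw [hI, Ideal.span_le]
    rintro _ ⟨u, rfl⟩
    have h0 : red M (x.coeff u) = 0 := by
      simpa using congrArg (fun y : MonoidAlgebra (Res M) G => y.coeff u) hx
    obtain ⟨n, hn⟩ := exists_pow_dvd_of_mem hM (red_eq_zero_iff.mp h0)
    exact ⟨n, Ideal.mem_span_singleton.mpr hn⟩
  obtain ⟨n, hn⟩ := Ideal.exists_pow_le_of_le_radical_of_fg hrad hfg
  have hpow : ∀ m u, (x ^ m).coeff u ∈ I ^ m := by
    intro m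
    induction m with
    | zero => intro u; simp
    | succ m ih =>
      intro u
      rw [pow_succ x, coeff_mul_sum, pow_succ I]
      exact Submodule.sum_mem _ fun w _ => Ideal.mul_mem_mul (ih w) (Ideal.subset_span ⟨_, rfl⟩)
  refine ⟨n * k + 1, by omega, fun u => ?_⟩
  have h1 : I ^ (n * k + 1) ≤ P ^ k := by
    refine le_trans (Ideal.pow_le_pow_right (Nat.le_succ _)) ?_
    rw [pow_mul]
    exact Ideal.pow_right_mono hn k
  have h2 := h1 (hpow _ u)
  rwa [Ideal.span_singleton_pow, Ideal.mem_span_singleton] at h2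

/-- An idempotent congruent to zero on a character acts as zero. -/
theorem acts_zero_of_congr (hM : Cfsg.IsPModular p M) {χ : Cfsg.IrrCharacter G}
    {f x : MonoidAlgebra (Loc M) G} (hf : f * f = f) (hx : redG M G x = 0)
    (h : ∀ b, ev (χ : G → ℂ) (b * toC M G f) = ev (χ : G → ℂ) (b * toC M G x)) :
    Acts (χ : G → ℂ) (toC M G f) 0 := by
  have hc := isClassFn_irr χ
  have hpow : ∀ n b, ev (χ : G → ℂ) (b * toC M G f ^ n) = ev (χ : G → ℂ) (b * toC M G x ^ n) := by
    intro n
    induction n with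
    | zero => simp
    | succ n ih =>
      intro b
      rw [pow_succ, ← mul_assoc, h, ev_mul_comm hc, ← mul_assoc, ih, pow_succ, ← mul_assoc b,
        mul_assoc, ev_mul_comm hc]
  have hzero : ∀ g, ev (χ : G → ℂ) (single g 1 * toC M G f) = 0 := by
    intro g
    have hval : ev (χ : G → ℂ) (single g 1 * toC M G f) =
        ((ev (fun u => charL M χ u) (single g 1 * f) : Loc M) : ℂ) := by
      rw [coe_ev, map_mul]
      congr 1
      simp
    rw [hval]
    suffices ev (fun u => charL M χ u) (single g 1 * f) = (0 : Loc M) by rw [this]; rfl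
    refine eq_zero_of_forall_pow_dvd hM fun k => ⟨k, le_rfl, ?_⟩
    obtain ⟨n, hn1, hn⟩ := exists_coeff_pow_dvd hM hx k
    have e : ev (fun u => charL M χ u) (single g 1 * f) =
        ev (fun u => charL M χ u) (single g 1 * x ^ n) := by
      refine Subtype.ext ?_
      rw [coe_ev, coe_ev, map_mul, map_mul, map_pow]
      simp only [coe_charL]
      rw [← hpow n, IsIdempotentElem.pow_eq
        (show IsIdempotentElem (toC M G f) by rw [IsIdempotentElem, ← map_mul, hf]) (by omega)]
    rw [e, ev_single_mul, one_mul, ev_eq_sum]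
    exact Finset.dvd_sum fun u _ => (hn u).mul_right _
  intro b
  rw [zero_mul]
  induction b using MonoidAlgebra.induction_linear with
  | zero => simp
  | add a b ha hb => rw [add_mul, ev_add, ha, hb, add_zero]
  | single g r =>
    rw [show (single g r : MonoidAlgebra ℂ G) = r • single g 1 by simp, smul_mul_assoc, ev_smul,
      hzero, mul_zero]

theorem exists_fitting {A : Type*} [Ring A] [Algebra (Res M) A] [Module.Finite (Res M) A] (y : A) :
    ∃ (N : ℕ) (b : A), 1 ≤ N ∧ Commute y b ∧ y ^ N * (y ^ N * b) = y ^ N := by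
  obtain ⟨P, hPm, hP⟩ := IsIntegral.of_finite (Res M) y
  obtain ⟨Q, hPQ, hQ0⟩ := P.exists_eq_pow_rootMultiplicity_mul_and_not_dvd hPm.ne_zero 0
  set N := P.rootMultiplicity 0
  simp only [map_zero, sub_zero] at hPQ hQ0
  have hq0 : Q.coeff 0 ≠ 0 := fun h => hQ0 (Polynomial.X_dvd_iff.mpr h)
  set R := Polynomial.aeval y Q.divX
  have hQy : Polynomial.aeval y Q = y * R + algebraMap (Res M) A (Q.coeff 0) := by
    conv_lhs => rw [← Polynomial.X_mul_divX_add Q]
    rw [map_add, map_mul, Polynomial.aeval_X, Polynomial.aeval_C]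
  rw [← Polynomial.aeval_def, hPQ, map_mul, map_pow, Polynomial.aeval_X, hQy, mul_add,
    add_eq_zero_iff_eq_neg'] at hP
  set c := (-(Q.coeff 0)⁻¹) • R
  have hyR : Commute y R := by
    have := Commute.map (Polynomial.commute_X Q.divX) (Polynomial.aeval (R := Res M) y)
    rwa [Polynomial.aeval_X] at this
  have hyc : Commute y c := hyR.smul_right _
  have hstep : y ^ N = y ^ N * (y * c) := by
    have h1 : y ^ N * algebraMap (Res M) A (Q.coeff 0) = Q.coeff 0 • y ^ N := by
      rw [← Algebra.commutes, ← Algebra.smul_def]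
    rw [h1] at hP
    calc y ^ N = (Q.coeff 0)⁻¹ • (Q.coeff 0 • y ^ N) := (inv_smul_smul₀ hq0 _).symm
      _ = y ^ N * (y * c) := by
        rw [hP]
        simp only [c, neg_smul, mul_neg, mul_smul_comm, smul_neg]
  have hiter : ∀ m, y ^ N = y ^ N * (y ^ m * c ^ m) := by
    intro m
    induction m with
    | zero => simp
    | succ m ih =>
      calc y ^ N = y ^ N * (y ^ m * c ^ m) := ih
        _ = y ^ N * (y * c) * (y ^ m * c ^ m) := by rw [← hstep]
        _ = y ^ N * (y ^ (m + 1) * c ^ (m + 1)) := by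
          rw [← hyc.mul_pow, ← hyc.mul_pow, mul_assoc, ← pow_succ']
  refine ⟨N + 1, c ^ (N + 1), by omega, hyc.pow_right _, ?_⟩
  rw [pow_succ' y N, mul_assoc y (y ^ N), mul_assoc y (y ^ N), ← mul_assoc (y ^ N) y, ← pow_succ]
  congr 1
  rw [← mul_assoc, (Commute.pow_pow_self y (N + 1) N).eq, mul_assoc, ← hiter]

/-- An element with scalar action `0` or `1` on some characters gives an idempotent with the same
actions. -/
theorem exists_idem_of_acts (hM : Cfsg.IsPModular p M) (a : MonoidAlgebra (Loc M) G) :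
    ∃ ε : MonoidAlgebra (Loc M) G, ε * ε = ε ∧ ∀ χ : Cfsg.IrrCharacter G,
      (Acts (χ : G → ℂ) (toC M G a) 0 → Acts (χ : G → ℂ) (toC M G ε) 0) ∧
      (Acts (χ : G → ℂ) (toC M G a) 1 → Acts (χ : G → ℂ) (toC M G ε) 1) := by
  haveI : Module.Finite (Res M) (MonoidAlgebra (Res M) G) := Module.Finite.of_surjective
    (Fintype.linearCombination (Res M) (fun g : G => single g (1 : Res M))) fun y => by
      refine ⟨fun g => y.coeff g, ?_⟩
      rw [Fintype.linearCombination_apply]
      conv_rhs => rw [eq_sum_single y]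
      exact Finset.sum_congr rfl fun g _ => by simp
  obtain ⟨N, b, hN, hyb, hfit⟩ := exists_fitting (M := M) (redG M G a)
  obtain ⟨b', rfl⟩ := redG_surjective b
  set a1 := a ^ N * b' with ha1
  have hidem : redG M G a1 * redG M G a1 = redG M G a1 := by
    rw [ha1, map_mul, map_pow]
    conv_lhs => rw [mul_assoc, ← mul_assoc (redG M G b'), ← (hyb.pow_left N).eq,
      ← mul_assoc, hfit]
  obtain ⟨ε, hε, hred, -⟩ := exists_idem_lift hidem
  have hfit' : redG M G (a ^ N * (1 - a1)) = 0 := by
    rw [map_mul, map_sub, map_one, ha1, map_mul, map_pow, mul_sub, mul_one, hfit, sub_self]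
  refine ⟨ε, hε, fun χ => ?_⟩
  have hc := isClassFn_irr χ
  have hacts : ∀ {s : ℂ}, Acts (χ : G → ℂ) (toC M G a) s → ∀ m,
      Acts (χ : G → ℂ) (toC M G (a ^ m)) (s ^ m) := by
    intro s h m
    induction m with
    | zero => simpa using Acts.one
    | succ m ih => rw [pow_succ, map_mul, pow_succ]; exact ih.mul h
  constructor
  · intro h
    refine acts_zero_of_congr hM (x := ε - a1) hε (by rw [map_sub, hred, sub_self]) fun w => ?_
    have h0 : ev (χ : G → ℂ) (w * toC M G a1) = 0 := by
      rw [ha1, map_mul, ev_mul_comm hc, mul_assoc, ev_mul_comm hc,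
        hacts h N (toC M G b' * w), zero_pow (by omega), zero_mul]
    rw [map_sub, mul_sub, ev_sub, h0, sub_zero]
  · intro h
    have h1 : Acts (χ : G → ℂ) (toC M G (1 - ε)) 0 := by
      refine acts_zero_of_congr hM (x := a ^ N * (1 - a1) - (ε - a1))
        (by simp [mul_sub, sub_mul, hε]) (by rw [map_sub, hfit', map_sub, hred, sub_self, sub_zero])
        fun w => ?_
      have h0 : ev (χ : G → ℂ) (w * toC M G (a ^ N * (1 - a1))) =
          ev (χ : G → ℂ) (w * toC M G (1 - a1)) := by
        rw [map_mul, ev_mul_comm hc, mul_assoc, ev_mul_comm hc,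
          hacts h N (toC M G (1 - a1) * w), one_pow, one_mul, ev_mul_comm hc]
      rw [map_sub (toC M G) (a ^ N * (1 - a1)), mul_sub, ev_sub, h0]
      simp only [map_sub, mul_sub, ev_sub, map_one]
      ring
    intro w
    have := h1 w
    rw [map_sub, map_one, mul_sub, mul_one, ev_sub, zero_mul, sub_eq_zero] at this
    rw [one_mul, this]

end Cfsg.Agent.RelUnion
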