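import Cfsg.Agent.Lib.Blocks.RelUnion.StepPower
import Cfsg.Agent.Lib.Blocks.InvariantCover

/-!
# Vanishing at singular elements cuts out unions of blocks in `p`-solvable groups
-/

set_option autoImplicit false
set_option linter.unusedSectionVars false
set_option linter.style.haveILetI false

namespace Cfsg.Agent.RelUnion

open Cfsg.Agent Blocks MonoidAlgebra

universe u

/-- A next normal section of `p`-power order or order prime to `p`. -/
theorem exists_next {G : Type u} [Group G] [Finite G] {p : ℕ} [Fact p.Prime]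
    (h : Cfsg.IsPSolvable p G) (R : Subgroup G) [R.Normal] (hR : R ≠ ⊤) :
    ∃ L : Subgroup G, L.Normal ∧ R < L ∧
      ((∃ n, R.relIndex L = p ^ n) ∨ ¬ p ∣ R.relIndex L) := by
  classical
  obtain ⟨n, H, h0, h1, -, hn, hfac⟩ := h
  have hex : ∃ i : ℕ, ∃ hi : i < n + 1, ¬ H ⟨i, hi⟩ ≤ R :=
    ⟨n, by omega, fun hle => hR (top_le_iff.mp (h1 ▸ hle))⟩
  obtain ⟨hi, hiR⟩ := Nat.find_spec hex
  have hi0 : Nat.find hex ≠ 0 := fun h' => hiR (by
    rw [show (⟨Nat.find hex, hi⟩ : Fin (n + 1)) = 0 from Fin.ext h', h0]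
    exact bot_le)
  obtain ⟨m, hm⟩ : ∃ m, Nat.find hex = m + 1 := ⟨Nat.find hex - 1, by omega⟩
  have hmn : m < n := by omega
  let k : Fin n := ⟨m, hmn⟩
  have hlow : H k.castSucc ≤ R := by
    by_contra hcon
    exact Nat.find_min hex (show m < Nat.find hex by omega) ⟨by omega, hcon⟩
  have hup : ¬ H k.succ ≤ R := by
    rwa [show k.succ = (⟨Nat.find hex, hi⟩ : Fin (n + 1)) from Fin.ext hm.symm]
  haveI := hn k.succ
  refine ⟨H k.succ ⊔ R, Subgroup.sup_normal _ _, lt_of_le_of_ne le_sup_right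
    (fun h' => hup (h'.symm ▸ le_sup_left)), ?_⟩
  have hd : R.relIndex (H k.succ ⊔ R) ∣ (H k.castSucc).relIndex (H k.succ) := by
    rw [Subgroup.relIndex_sup_right]
    exact Subgroup.relIndex_dvd_of_le_left _ hlow
  rcases hfac k with ⟨e, he⟩ | hc
  · rw [he] at hd
    obtain ⟨j, -, hj⟩ := (Nat.dvd_prime_pow (Fact.out : p.Prime)).mp hd
    exact Or.inl ⟨j, hj⟩
  · exact Or.inr fun h' => (Fact.out : p.Prime).coprime_iff_not_dvd.mp hc.symm (h'.trans hd)

variable {p : ℕ} {M : Ideal Cfsg.AlgInt} [M.IsPrime]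

open Classical in
theorem claim_of_good [Fact p.Prime] (hM : Cfsg.IsPModular p M) (n : ℕ) :
    ∀ (G K : Type u) [Group G] [Fintype G] [Group K] [Fintype K] (j : K →* G)
      (θ : Cfsg.IrrCharacter K), j.range.index = n → Cfsg.IsPSolvable p G → Good p M j θ →
      Claim p M j θ := by
  induction n using Nat.strong_induction_on with
  | _ n ih =>
    intro G K _ _ _ _ j θ hn hsolv hg
    haveI := hg.stable.normal
    by_cases htop : j.range = ⊤
    · -- the base case
      have hsur : Function.Surjective j := MonoidHom.range_eq_top.mp htop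
      intro U hU _
      refine ⟨if U.Nonempty then 1 else 0, fun χ ho => ?_⟩
      have huniq : ∀ ψ : Cfsg.IrrCharacter G, Over j θ (ψ : G → ℂ) → ψ = χ := by
        intro ψ hψ
        have e : ∀ η : Cfsg.IrrCharacter G, Over j θ (η : G → ℂ) →
            (fun k => (η : G → ℂ) (j k)) = (θ : K → ℂ) := fun η h =>
          CT.eq_of_inner_ne_zero (CT.isIrrCharacter_comp j hsur η.2) θ.2 h
        refine Subtype.ext (funext fun g => ?_)
        obtain ⟨k, rfl⟩ := hsur g
        exact (congrFun (e ψ hψ) k).trans (congrFun (e χ ho) k).symm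
      by_cases hne : U.Nonempty
      · obtain ⟨ψ, hψ⟩ := hne
        rw [if_pos ⟨ψ, hψ⟩, map_one, if_pos (huniq ψ (hU ψ hψ) ▸ hψ)]
        exact Acts.one
      · rw [if_neg hne, map_zero, if_neg fun h => hne ⟨χ, h⟩]
        exact Acts.zero
    · obtain ⟨L, hL, hlt, hsec⟩ := exists_next hsolv j.range htop
      haveI := hL
      haveI := Fintype.ofFinite L
      have hLidx : L.index < j.range.index := Subgroup.index_strictAnti hlt
      rcases hsec with hpow | hidx
      · refine step_power hM hg L hlt.le hpow fun η hη => ?_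
        exact ih L.index (hn ▸ hLidx) G L L.subtype η (by rw [Subgroup.range_subtype]) hsolv hη
      · refine step_prime hM hg L hlt.le hidx fun η hT hη => ?_
        haveI := Fintype.ofFinite (CT.inertia L (η : L → ℂ))
        refine ih _ ?_ _ L (Subgroup.inclusion hT) η rfl (isPSolvable_subgroup hsolv _) hη
        rw [← hn, Subgroup.inclusion_range]
        exact lt_of_le_of_lt (Nat.le_of_dvd
          (Nat.pos_of_ne_zero Subgroup.index_ne_zero_of_finite)
          (Subgroup.relIndex_dvd_index_of_normal L _)) hLidx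

theorem union_of_blocks [Fact p.Prime] {G : Type u} [Group G] [Finite G]
    (hM : Cfsg.IsPModular p M) (hsolv : Cfsg.IsPSolvable p G) (U : Set (Cfsg.IrrCharacter G))
    (hU : ∀ x : G, p ∣ orderOf x → Cfsg.blockCoeff U x = 0) (u : G) :
    Cfsg.blockCoeff U u ∈ Loc M := by
  classical
  haveI := Fintype.ofFinite G
  haveI := Fintype.ofFinite (⊥ : Subgroup G)
  let j : (⊥ : Subgroup G) →* G := (⊥ : Subgroup G).subtype
  let θ : Cfsg.IrrCharacter (⊥ : Subgroup G) := ⟨fun _ => 1, CT.isIrrCharacter_one⟩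
  have hone : ∀ k : (⊥ : Subgroup G), k = 1 := fun k => Subsingleton.elim _ _
  have hstab : Stable j θ := fun g k => ⟨k, by rw [hone k]; simp, rfl⟩
  have hover : ∀ χ : Cfsg.IrrCharacter G, Over j θ (χ : G → ℂ) := fun χ => by
    have h1 : ∀ k, (χ : G → ℂ) (j k) = (χ : G → ℂ) 1 := fun k => by rw [hone k, map_one]
    show Cfsg.classInner (fun k => (χ : G → ℂ) (j k)) (fun _ => (1 : ℂ)) ≠ 0
    simp only [h1, Cfsg.classInner, map_one, mul_one, Finset.sum_const, nsmul_eq_mul]
    exact mul_ne_zero (inv_ne_zero CT.card_ne_zero)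
      (mul_ne_zero (Nat.cast_ne_zero.mpr (Finset.card_pos.mpr ⟨1, Finset.mem_univ _⟩).ne')
        (CT.irr_one_ne_zero χ.2))
  have hp := (Fact.out : p.Prime)
  have hgood : Good p M j θ := by
    refine ⟨Subgroup.subtype_injective _, hstab, ?_, ?_, fun _ _ => 1, fun _ _ => (Loc M).one_mem,
      fun x y => by simp [θ]⟩
    · rw [show CT.deg (θ : (⊥ : Subgroup G) → ℂ) = 1 by simp [CT.deg, θ]]
      exact hp.not_dvd_one
    · intro h
      have h2 := h.trans (RelCorr.detOrder_dvd_card (CT.isCharacter_of_isIrr θ.2))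
      rw [Subgroup.card_bot] at h2
      exact hp.not_dvd_one h2
  obtain ⟨a, ha⟩ := claim_of_good hM _ G (⊥ : Subgroup G) j θ rfl hsolv hgood U
    (fun χ _ => hover χ) (fun g hg => hU g (hg _ (by
      rw [pow_orderOf_eq_one]; exact Subgroup.one_mem _)))
  have e : toC M G a = idemC U := ext_ev fun χ b => by
    rw [ha χ (hover χ) b, acts_idemC U b]
  have h2 : (toC M G a).coeff u = Cfsg.blockCoeff U u := by rw [e]; rfl
  rw [← h2, coeff_map']
  exact Subtype.prop _

end Cfsg.Agent.RelUnion
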