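import Cfsg.Agent.Lib.Blocks.RelUnion.Rel
import Cfsg.Agent.Lib.CT.Degree
import Cfsg.Agent.Lib.CoprimeExt.Basic

/-!
# Passing from a stable character to the characters of a larger normal subgroup lying over it
-/

set_option autoImplicit false
set_option linter.unusedSectionVars false
set_option linter.style.haveILetI false

namespace Cfsg.Agent.RelUnion

open Cfsg.Agent Blocks MonoidAlgebra
open scoped ComplexConjugate

universe u

variable {L K : Type u} [Group L] [Fintype L] [Group K] [Fintype K] {i : K →* L}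
  {θ : Cfsg.IrrCharacter K} {η : Cfsg.IrrCharacter L}

theorem card_eq_index_mul (hi : Function.Injective i) :
    Nat.card L = i.range.index * Nat.card K := by
  rw [← i.range.index_mul_card, ← Nat.card_congr (MonoidHom.ofInjective hi).toEquiv]

theorem restrict_eq_of_over (hi : Function.Injective i) (hs : Stable i θ)
    (ho : Over i θ (η : L → ℂ)) :
    (fun k => (η : L → ℂ) (i k)) =
      (CT.mult (fun k => (η : L → ℂ) (i k)) (θ : K → ℂ) : ℂ) • (θ : K → ℂ) := by
  classical
  have hc := CT.isCharacter_comp i (CT.isCharacter_of_isIrr η.2)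
  conv_lhs => rw [CT.character_eq_sum hc]
  refine Finset.sum_eq_single θ (fun ξ _ hne => ?_) fun h => absurd (Finset.mem_univ _) h
  have h := acts_eOf_of_over hi hs ho (emb i (eOf ξ))
  rw [← map_mul, idemC_mul, show ({ξ} ∩ {θ} : Set (Cfsg.IrrCharacter K)) = ∅ by
      simp [hne], one_mul, ev_eOf] at h
  have h0 : (idemC (∅ : Set (Cfsg.IrrCharacter K))) = 0 :=
    ext_ev fun χ b => by rw [acts_idemC ∅ b, Acts.zero b]; simp
  rw [h0, map_zero, ev_zero] at h
  have h1 := (mul_eq_zero.mp h.symm).resolve_left (CT.irr_one_ne_zero ξ.2)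
  rw [CT.mult_spec hc (CT.isCharacter_of_isIrr ξ.2)] at h1
  rw [h1, zero_smul]

theorem detChar_smul (θ : Cfsg.IrrCharacter K) (e : ℕ) :
    Cfsg.detChar ((e : ℂ) • (θ : K → ℂ)) = fun k => Cfsg.detChar (θ : K → ℂ) k ^ e := by
  obtain ⟨d, ρ, hρ⟩ := CT.isCharacter_of_isIrr θ.2
  induction e with
  | zero =>
    have h0 : ((0 : ℕ) : ℂ) • (θ : K → ℂ) =
        (Representation.trivial ℂ K (Fin 0 → ℂ)).character := by
      funext g
      simp [Representation.character, Representation.trivial]
    rw [h0, CoprimeExt.detChar_eq]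
    funext k
    rw [pow_zero, CoprimeExt.detHom_apply]
    exact LinearMap.det_id
  | succ e ih =>
    obtain ⟨m, σ, hσ⟩ := CT.isCharacter_nsmul e (CT.isCharacter_of_isIrr θ.2)
    have hc : ((e + 1 : ℕ) : ℂ) • (θ : K → ℂ) = (σ.prod ρ).character := by
      rw [CT.char_prod, hσ, hρ]
      push_cast
      rw [add_smul, one_smul]
    rw [hc, CoprimeExt.detChar_eq]
    funext k
    rw [CoprimeExt.detHom_apply, pow_succ, ← congrFun ih k, ← hσ, ← hρ, CoprimeExt.detChar_eq,
      CoprimeExt.detChar_eq]
    exact LinearMap.det_prodMap _ _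

theorem over_degree_det {p : ℕ} (hp : p.Prime) (hi : Function.Injective i) (hs : Stable i θ)
    (ho : Over i θ (η : L → ℂ)) (hdeg : ¬ p ∣ CT.deg (θ : K → ℂ))
    (hdet : ¬ p ∣ Cfsg.detOrder (θ : K → ℂ)) (hidx : ¬ p ∣ i.range.index) :
    ¬ p ∣ CT.deg (η : L → ℂ) ∧ ¬ p ∣ Cfsg.detOrder (η : L → ℂ) := by
  classical
  haveI := hs.normal
  haveI := Fintype.ofFinite i.range
  let e : K ≃* i.range := MonoidHom.ofInjective hi
  refine ⟨?_, ?_⟩
  · let φ : i.range → ℂ := fun r => (θ : K → ℂ) (e.symm r)
    have hφ : Cfsg.IsIrrCharacter i.range φ :=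
      CT.isIrrCharacter_comp e.symm.toMonoidHom e.symm.surjective θ.2
    have hcon : Cfsg.classInner (fun r : i.range => (η : L → ℂ) r) φ ≠ 0 := by
      refine fun h => ho (Eq.trans ?_ h)
      simp only [Cfsg.classInner]
      rw [Nat.card_congr e.toEquiv]
      congr 1
      refine Fintype.sum_equiv e.toEquiv _ _ fun k => ?_
      simp [φ, e, MonoidHom.ofInjective_apply]
    obtain ⟨k, hk, hd⟩ := CT.deg_ratio_dvd_index i.range η.2 hφ hcon
    have hφd : CT.deg φ = CT.deg (θ : K → ℂ) := by simp [CT.deg, φ]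
    rw [hk, hφd]
    exact fun h => (hp.dvd_mul.mp h).elim (fun h' => hidx (h'.trans hd)) hdeg
  · obtain ⟨d, τ, hτ⟩ := CT.isCharacter_of_isIrr η.2
    obtain ⟨m, ρ, hρ⟩ := CT.isCharacter_of_isIrr θ.2
    rw [← hτ, CoprimeExt.detOrder_eq]
    rw [← hρ, CoprimeExt.detOrder_eq] at hdet
    set o := orderOf (CoprimeExt.detHom ρ) with ho'
    have hres : ∀ k, (CoprimeExt.detHom τ (i k)) ^ o = 1 := by
      intro k
      have h1 := CoprimeExt.detChar_eq (CoprimeExt.pullRep τ i)
      rw [show (CoprimeExt.pullRep τ i).character = fun k => (η : L → ℂ) (i k) from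
        funext fun k => by rw [← hτ]; rfl, restrict_eq_of_over hi hs ho, detChar_smul, ← hρ,
        CoprimeExt.detChar_eq] at h1
      refine Units.ext ?_
      rw [Units.val_pow_eq_pow_val, show (CoprimeExt.detHom τ (i k) : ℂ) = _ from (congrFun h1 k).symm,
        ← pow_mul, mul_comm, pow_mul, ← Units.val_pow_eq_pow_val, ← MonoidHom.pow_apply, ho',
        pow_orderOf_eq_one]
      simp
    have hd : orderOf (CoprimeExt.detHom τ) ∣ i.range.index * o := by
      refine orderOf_dvd_of_pow_eq_one (MonoidHom.ext fun x => ?_)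
      rw [MonoidHom.pow_apply, MonoidHom.one_apply, pow_mul, ← map_pow]
      obtain ⟨k, hk⟩ := i.range.pow_index_mem x
      rw [← hk]
      exact hres k
    exact fun h => (hp.dvd_mul.mp (h.trans hd)).elim hidx hdet

open Classical in
/-- The Casimir element upstairs, and the operator of the idempotent upstairs. -/
theorem cas_over {p : ℕ} {M : Ideal Cfsg.AlgInt} [M.IsPrime] (hM : Cfsg.IsPModular p M)
    (hi : Function.Injective i) (hs : Stable i θ) (ho : Over i θ (η : L → ℂ))
    (hdeg : ¬ p ∣ CT.deg (θ : K → ℂ)) (hidx : ¬ p ∣ i.range.index) {c : K → K → ℂ}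
    (hloc : ∀ k k', c k k' ∈ Loc M) (hc : Cas θ c) :
    ∃ cL : L → L → ℂ, (∀ l l', cL l l' ∈ Loc M) ∧ Cas η cL ∧
      ∀ F F' : L → ℂ, (∀ s, Rep θ fun k => F (i k * s)) → (∀ s, Rep θ fun k => F' (s * i k)) →
        ∑ l, ∑ l', cL l l' * F l * F' l' = pair η F F' := by
  haveI := hs.normal
  haveI := Fintype.ofFinite (L ⧸ i.range)
  set coef : ℂ := (η : L → ℂ) 1 / ((i.range.index : ℂ) * (θ : K → ℂ) 1) with hcoef
  let cL : L → L → ℂ := fun l l' => coef * ∑ q : L ⧸ i.range, ∑ k, ∑ k',
    if i k * q.out⁻¹ = l ∧ q.out * i k' = l' then c k k' else 0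
  have hbil : ∀ F F' : L → ℂ, (∀ s, Rep θ fun k => F (i k * s)) →
      (∀ s, Rep θ fun k => F' (s * i k)) → ∑ l, ∑ l', cL l l' * F l * F' l' = pair η F F' := by
    intro F F' hF hF'
    have hbij : Function.Bijective fun a : (L ⧸ i.range) × K => a.1.out * i a.2 := by
      rw [Fintype.bijective_iff_injective_and_card]
      have hq : ∀ (q : L ⧸ i.range) (k : K), ((q.out * i k : L) : L ⧸ i.range) = q := fun q k => by
        rw [QuotientGroup.mk_mul, QuotientGroup.out_eq', (QuotientGroup.eq_one_iff (i k)).mpr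
          (show i k ∈ i.range from ⟨k, rfl⟩), mul_one]
      refine ⟨fun a b h => ?_, ?_⟩
      · have h1 : a.1 = b.1 := by
          rw [← hq a.1 a.2, ← hq b.1 b.2]
          exact congrArg (fun x : L => (x : L ⧸ i.range)) h
        refine Prod.ext h1 (hi ?_)
        simp only [h1] at h
        exact mul_left_cancel h
      · rw [Fintype.card_prod, ← Nat.card_eq_fintype_card, ← Nat.card_eq_fintype_card,
          ← Nat.card_eq_fintype_card, ← Subgroup.index_eq_card, card_eq_index_mul hi]
    calc ∑ l, ∑ l', cL l l' * F l * F' l'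
        = coef * ∑ q : L ⧸ i.range, ∑ k, ∑ k', c k k' * F (i k * q.out⁻¹) * F' (q.out * i k') := by
          rw [Finset.mul_sum]
          simp only [cL, Finset.mul_sum, Finset.sum_mul]
          rw [Finset.sum_congr rfl fun l _ => Finset.sum_comm, Finset.sum_comm]
          refine Finset.sum_congr rfl fun q _ => ?_
          rw [Finset.sum_congr rfl fun l _ => Finset.sum_comm, Finset.sum_comm]
          refine Finset.sum_congr rfl fun k _ => ?_
          rw [Finset.sum_congr rfl fun l _ => Finset.sum_comm, Finset.sum_comm]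
          refine Finset.sum_congr rfl fun k' _ => ?_
          rw [Finset.sum_eq_single (i k * q.out⁻¹)
            (fun l _ hl => Finset.sum_eq_zero fun l' _ => by rw [if_neg fun h => hl h.1.symm]; simp)
            (by simp),
            Finset.sum_eq_single (q.out * i k')
            (fun l' _ hl => by rw [if_neg fun h => hl h.2.symm]; simp) (by simp),
            if_pos ⟨rfl, rfl⟩]
          ring
      _ = coef * ∑ q : L ⧸ i.range, (θ : K → ℂ) 1 / (Nat.card K : ℂ) *
            ∑ k, F ((q.out * i k)⁻¹) * F' (q.out * i k) := by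
          congr 1
          refine Finset.sum_congr rfl fun q _ => ?_
          rw [hc.bil (hF q.out⁻¹) (hF' q.out), pair]
          simp [mul_inv_rev]
      _ = pair η F F' := by
          have h1 : ∑ q : L ⧸ i.range, ∑ k, F ((q.out * i k)⁻¹) * F' (q.out * i k) =
              ∑ l, F l⁻¹ * F' l := by
            rw [← Fintype.sum_prod_type' fun (q : L ⧸ i.range) k => F ((q.out * i k)⁻¹) * F' (q.out * i k)]
            exact Fintype.sum_bijective _ hbij _ _ fun a => rfl
          rw [← Finset.mul_sum, h1, pair, ← mul_assoc]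
          congr 1
          rw [hcoef, card_eq_index_mul hi]
          have h2 : (θ : K → ℂ) 1 ≠ 0 := CT.irr_one_ne_zero θ.2
          have h3 : (i.range.index : ℂ) ≠ 0 := Nat.cast_ne_zero.mpr Subgroup.index_ne_zero_of_finite
          have h4 : (Nat.card K : ℂ) ≠ 0 := CT.card_ne_zero
          push_cast
          field_simp
  refine ⟨cL, fun l l' => ?_, fun x y => ?_, hbil⟩
  · refine (Loc M).mul_mem ?_ ((Loc M).sum_mem fun q _ => (Loc M).sum_mem fun k _ =>
      (Loc M).sum_mem fun k' _ => ?_)
    · rw [hcoef, div_eq_mul_inv]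
      refine (Loc M).mul_mem (integral_mem_loc (isIntegral_irr η.2 1)) (inv_mem_loc ?_ ?_)
      · exact (Loc M).mul_mem (natCast_mem _ _) (integral_mem_loc (isIntegral_irr θ.2 1))
      · rw [CT.deg_eq (CT.isCharacter_of_isIrr θ.2), ← Nat.cast_mul, memLocalIdeal_natCast hM]
        exact fun h => (hM.1.dvd_mul.mp h).elim hidx hdeg
    · split_ifs
      exacts [hloc k k', (Loc M).zero_mem]
  · rw [← pair_translate η x y]
    refine hbil _ _ (fun s => ?_) fun s => ?_
    · simpa only [mul_assoc] using rep_of_over' hi hs ho x s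
    · have := rep_of_over' hi hs ho (y * s) 1
      simpa only [mul_one, mul_assoc] using this

end Cfsg.Agent.RelUnion
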