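import Cfsg.Agent.Lib.Blocks.RelUnion.Singular
import Cfsg.Agent.Lib.Basics.SchurZassenhaus
import Cfsg.Agent.Lib.CoprimeExt.Basic
import Mathlib.GroupTheory.Nilpotent

/-!
# A function over `θ` orthogonal to the extension vanishes at relatively regular elements
-/

set_option autoImplicit false
set_option linter.unusedSectionVars false
set_option linter.style.haveILetI false

namespace Cfsg.Agent.RelUnion

open Cfsg.Agent Blocks Blocks.IsoBlocks MonoidAlgebra
open scoped ComplexConjugate

universe u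

variable {G K : Type u} [Group G] [Fintype G] [Group K] [Fintype K] {p : ℕ}

/-- Relatively regular elements of a coset of a `p`-section are conjugate. -/
theorem exists_conj_regular [hp : Fact p.Prime] (R L : Subgroup G) [R.Normal] [L.Normal]
    (hpow : ∃ n, R.relIndex L = p ^ n) (hRL : R ≤ L) {g l : G} (hl : l ∈ L) (hg : ¬ Sing p R g)
    (hgl : ¬ Sing p R (g * l)) : ∃ x ∈ L, ∃ r ∈ R, g * l = x * (g * r) * x⁻¹ := by
  rw [not_dvd_of_not_sing] at hg hgl
  obtain ⟨n, hn⟩ := hpow
  let π := QuotientGroup.mk' R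
  let P : Subgroup (G ⧸ R) := L.map π
  haveI : P.Normal := Subgroup.Normal.map inferInstance π (QuotientGroup.mk'_surjective R)
  have hP : Nat.card P = p ^ n := by
    rw [← hn]
    show Nat.card (L.map π) = R.relIndex L
    rw [← MonoidHom.restrict_range, ← Subgroup.index_ker, MonoidHom.ker_restrict,
      QuotientGroup.ker_mk']
    rfl
  have hPsol : Group.IsSolvable P := by
    haveI : Group.IsNilpotent P := (IsPGroup.of_card hP).isNilpotent
    infer_instance
  set a : G ⧸ R := π g with ha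
  set b : G ⧸ R := π (g * l) with hb
  have hab : a⁻¹ * b ∈ P := ⟨l, hl, by simp [ha, hb, π, mul_assoc]⟩
  have hordP : ∀ q : G ⧸ R, ¬ p ∣ orderOf q → orderOf (QuotientGroup.mk' P q) = orderOf q := by
    intro q hq
    refine Nat.dvd_antisymm (orderOf_map_dvd _ q) (orderOf_dvd_of_pow_eq_one ?_)
    have hmem : q ^ orderOf (QuotientGroup.mk' P q) ∈ P := by
      rw [← QuotientGroup.eq_one_iff, QuotientGroup.mk_pow]
      exact pow_orderOf_eq_one _
    refine orderOf_eq_one_iff.mp (Nat.eq_one_of_dvd_coprimes ?_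
      ((Subgroup.orderOf_coe (⟨_, hmem⟩ : P)).dvd.trans (orderOf_dvd_natCard _)) (orderOf_pow_dvd _))
    rw [hP]
    exact ((hp.out.coprime_iff_not_dvd).mpr hq).pow_left n
  have hsame : QuotientGroup.mk' P a = QuotientGroup.mk' P b :=
    QuotientGroup.eq.mpr hab
  have hord : orderOf b = orderOf a := by rw [← hordP a hg, ← hordP b hgl, hsame]
  obtain ⟨m, hmP, hm⟩ := Basics.exists_conj_eq_of_coprime P (Subgroup.zpowers a) (Subgroup.zpowers b)
    Subgroup.le_normalizer_of_normal
    (by rw [hP, Nat.card_zpowers]; exact ((hp.out.coprime_iff_not_dvd).mpr hg).pow_left n)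
    (by
      rw [Subgroup.zpowers_le]
      refine Subgroup.mem_sup_of_normal_left.mpr
        ⟨a * (a⁻¹ * b) * a⁻¹, ‹P.Normal›.conj_mem _ hab a, a, Subgroup.mem_zpowers a, by group⟩)
    (by rw [Nat.card_zpowers, Nat.card_zpowers, hord]) (Or.inl hPsol)
  obtain ⟨x, hx, rfl⟩ := hmP
  have h1 : π x * a * (π x)⁻¹ ∈ Subgroup.zpowers b := by
    rw [← hm, Subgroup.pointwise_smul_def]
    exact ⟨a, Subgroup.mem_zpowers a, rfl⟩
  have h2 : π x * a * (π x)⁻¹ = b := by
    obtain ⟨i, hi⟩ := Subgroup.mem_zpowers_iff.mp h1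
    set q := π x * a * (π x)⁻¹ * b⁻¹ with hq
    have hqb : q ∈ Subgroup.zpowers b := mul_mem h1 (inv_mem (Subgroup.mem_zpowers b))
    have hqP : q ∈ P := by
      rw [← QuotientGroup.eq_one_iff]
      show QuotientGroup.mk' P q = 1
      rw [hq, map_mul, map_mul, map_mul, map_inv, map_inv, ← hsame,
        show QuotientGroup.mk' P (π x) = 1 from (QuotientGroup.eq_one_iff _).mpr ⟨x, hx, rfl⟩]
      group
    have : q = 1 := orderOf_eq_one_iff.mp (Nat.eq_one_of_dvd_coprimes
      (hP.symm ▸ ((hp.out.coprime_iff_not_dvd).mpr hgl).pow_left n)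
      ((Subgroup.orderOf_coe (⟨q, hqP⟩ : P)).dvd.trans (orderOf_dvd_natCard _))
      ((orderOf_dvd_of_mem_zpowers hqb)))
    exact mul_inv_eq_one.mp this
  refine ⟨x, hx, g⁻¹ * x⁻¹ * (g * l) * x, ?_, by group⟩
  rw [← QuotientGroup.eq_one_iff]
  show π (g⁻¹ * x⁻¹ * (g * l) * x) = 1
  rw [map_mul, map_mul, map_mul, map_inv, map_inv, ← hb, ← h2, ← ha]
  group

open Classical in
theorem regular_eq_zero [hp : Fact p.Prime] {j : K →* G} {θ : Cfsg.IrrCharacter K}
    (hj : Function.Injective j) (hs : Stable j θ) (L : Subgroup G) [hL : L.Normal] [Fintype L]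
    (hle : j.range ≤ L) (hpow : ∃ n, j.range.relIndex L = p ^ n) (η : Cfsg.IrrCharacter L)
    (hηinv : ∀ (g : G) (l : L), (η : L → ℂ) ⟨g * l * g⁻¹, hL.conj_mem l l.2 g⟩ = (η : L → ℂ) l)
    (hηres : ∀ k, (η : L → ℂ) ⟨j k, hle ⟨k, rfl⟩⟩ = (θ : K → ℂ) k)
    {D : G → ℂ} (hD : Cfsg.IsClassFunction G D) (hrep : ∀ x : G, Rep θ fun k => D (x * j k))
    (horth : ∀ b : MonoidAlgebra ℂ G, ev D (b * emb L.subtype (eOf η)) = 0)
    (hsing : ∀ g, Sing p j.range g → D g = 0) {g : G} (hg : ¬ Sing p j.range g) : D g = 0 := by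
  haveI := hs.normal
  let jL : K →* L := j.codRestrict L fun k => hle ⟨k, rfl⟩
  obtain ⟨n, τ, hτirr, hτ⟩ := η.2
  haveI := hτirr
  let σ : Representation ℂ K (Fin n → ℂ) := τ.comp jL
  have hσc : ∀ k, σ.character k = (θ : K → ℂ) k := fun k => by
    rw [← hηres k, ← hτ]; rfl
  haveI : σ.IsIrreducible := CT.isIrreducible_of_isIrrCharacter σ (by
    rw [show σ.character = (θ : K → ℂ) from funext hσc]; exact θ.2)
  have hn0 : (n : ℂ) ≠ 0 := by
    have := CT.finrank_pos_of_irreducible τ
    rw [Module.finrank_fin_fun] at this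
    exact Nat.cast_ne_zero.mpr this.ne'
  have hη1 : (η : L → ℂ) 1 = n := by
    rw [← hτ, Representation.char_one, Module.finrank_fin_fun]
  -- the intertwiner
  let c : L →* L := (MulAut.conjNormal g).toMonoidHom
  have hchar : (CoprimeExt.pullRep τ c).character = τ.character := by
    funext l
    show τ.character (MulAut.conjNormal g l) = τ.character l
    rw [hτ, ← hηinv g l]
    exact congrArg (η : L → ℂ) (Subtype.ext (MulAut.conjNormal_apply g l))
  obtain ⟨e⟩ := CT.equiv_of_character_eq τ (CoprimeExt.pullRep τ c) hchar.symm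
  let A : Module.End ℂ (Fin n → ℂ) := e.toLinearEquiv.toLinearMap
  let A' : Module.End ℂ (Fin n → ℂ) := e.toLinearEquiv.symm.toLinearMap
  have hA' : A' * A = 1 := LinearMap.ext fun v => e.toLinearEquiv.symm_apply_apply v
  have hA : A * A' = 1 := LinearMap.ext fun v => e.toLinearEquiv.apply_symm_apply v
  have hint : ∀ l : L, A * τ l = τ ⟨g * l * g⁻¹, hL.conj_mem l l.2 g⟩ * A := by
    intro l
    have h1 : A * τ l = τ (MulAut.conjNormal g l) * A := e.isIntertwining' l
    rw [h1]
    exact congrArg (fun m => τ m * A) (Subtype.ext (MulAut.conjNormal_apply g l))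
  have hgi : ∀ l : L, g⁻¹ * (l : G) * g ∈ L := fun l => by
    simpa using hL.conj_mem (l : G) l.2 g⁻¹
  have hback : ∀ l : L, τ ⟨g⁻¹ * l * g, hgi l⟩ = A' * τ l * A := by
    intro l
    have h1 := hint ⟨g⁻¹ * l * g, hgi l⟩
    rw [← one_mul (τ ⟨g⁻¹ * l * g, hgi l⟩), ← hA', mul_assoc, h1, ← mul_assoc]
    exact congrArg (fun m => A' * τ m * A) (Subtype.ext (by simp [mul_assoc]))
  -- the values on the coset of the image of `j`
  let f : K → ℂ := fun k => D (g * j k)
  let X : Module.End ℂ (Fin n → ℂ) :=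
    ∑ w, ((θ : K → ℂ) 1 / (Nat.card K : ℂ) * f w⁻¹) • σ w
  have htr : ∀ k, LinearMap.trace ℂ _ (X * σ k) = f k := by
    intro k
    have h := (hrep g).expand k
    rw [show f k = _ from h]
    simp only [X, Finset.sum_mul, map_sum, smul_mul_assoc, map_smul, smul_eq_mul, ← map_mul]
    exact Finset.sum_congr rfl fun w _ => by rw [← hσc (w * k)]; rfl
  have hcov : ∀ k, σ k * (X * A') = (X * A') * σ k := by
    intro k
    obtain ⟨k', hk', -⟩ := hs g⁻¹ k
    have h0 : σ k * X - X * σ k' = 0 := by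
      refine eq_zero_of_trace σ fun i => ?_
      rw [sub_mul, map_sub, sub_eq_zero, mul_assoc, LinearMap.trace_mul_comm, mul_assoc, mul_assoc,
        ← map_mul, ← map_mul, htr, htr]
      show D (g * j (i * k)) = D (g * j (k' * i))
      rw [map_mul, map_mul, hk', ← mul_assoc g (j i) (j k),
        show D (g * j i * j k) = D (j k * (g * j i)) from IsClassFn.mul_comm hD _ _]
      congr 1
      group
    have hk : σ k' = A' * σ k * A := by
      show τ (jL k') = A' * τ (jL k) * A
      rw [← hback]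
      exact congrArg τ (Subtype.ext (by rw [show (jL k' : G) = j k' from rfl, hk', inv_inv]; rfl))
    rw [sub_eq_zero, hk] at h0
    rw [← mul_assoc, h0]
    simp only [mul_assoc, hA, mul_one]
  have hXA := CT.eq_scalar_of_commute σ (X * A') fun k => (hcov k).symm
  set cc := LinearMap.trace ℂ _ (X * A') / (Module.finrank ℂ (Fin n → ℂ) : ℂ) with hcc
  have hX : X = cc • A := by
    rw [show X = X * A' * A by rw [mul_assoc, hA', mul_one], hXA]
    exact LinearMap.ext fun v => rfl
  -- the dual function on the coset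
  let Ψ : L → ℂ := fun l => LinearMap.trace ℂ _ (τ l⁻¹ * A')
  let F : L → ℂ := fun l => Ψ l * D (g * l)
  have hFsum : ∑ l, F l = 0 := by
    have hΨ : ∀ l, Ψ l = ∑ z, ((n : ℂ) / (Nat.card L : ℂ) * LinearMap.trace ℂ _ (A' * τ z⁻¹)) *
        (η : L → ℂ) (l⁻¹ * z) := by
      intro l
      have h1 := schur_trace τ A' (τ l⁻¹)
      simp only [Ψ]
      rw [LinearMap.trace_mul_comm]
      have h2 : ∀ z, (η : L → ℂ) (l⁻¹ * z) = LinearMap.trace ℂ _ (τ l⁻¹ * τ z) := fun z => by
        rw [← map_mul, ← hτ]; rfl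
      simp only [h2]
      rw [Finset.sum_congr rfl (g := fun z => (n : ℂ) / (Nat.card L : ℂ) *
        (LinearMap.trace ℂ _ (A' * τ z⁻¹) * LinearMap.trace ℂ _ (τ l⁻¹ * τ z))) fun z _ => by ring,
        ← Finset.mul_sum, h1]
      have : (Nat.card L : ℂ) ≠ 0 := CT.card_ne_zero
      field_simp
    simp only [F, hΨ, Finset.sum_mul]
    rw [Finset.sum_comm]
    refine Finset.sum_eq_zero fun z _ => ?_
    simp only [mul_assoc, ← Finset.mul_sum]
    rw [mul_eq_zero, mul_eq_zero]
    right; right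
    have h := horth (single (g * (z : G)) 1)
    rw [ev_mul_emb] at h
    have e : ∀ m : L, (eOf η).coeff m * ev D (single (g * (z : G)) 1 * single (L.subtype m) 1) =
        (η : L → ℂ) 1 / (Nat.card L : ℂ) * ((η : L → ℂ) m⁻¹ * D (g * (z : G) * m)) := fun m => by
      rw [coeff_eOf, single_mul_single, ev_single]
      simp only [Subgroup.coe_subtype]
      ring
    rw [Finset.sum_congr rfl fun m _ => e m, ← Finset.mul_sum] at h
    have h' := (mul_eq_zero.mp h).resolve_left
      (div_ne_zero (CT.irr_one_ne_zero η.2) CT.card_ne_zero)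
    refine Eq.trans (Fintype.sum_equiv (Equiv.mulLeft z⁻¹) _ _ fun l => ?_) h'
    simp [mul_assoc]
  let φ : L → L → L := fun x l => ⟨g⁻¹ * x * g, hgi x⟩ * l * x⁻¹
  have hFφ : ∀ x l, F (φ x l) = F l := by
    intro x l
    simp only [F]
    congr 1
    · simp only [Ψ, φ, mul_inv_rev, inv_inv, map_mul]
      rw [show (⟨g⁻¹ * x * g, hgi x⟩ : L)⁻¹ = ⟨g⁻¹ * (x⁻¹ : L) * g, hgi x⁻¹⟩ from
        Subtype.ext (by simp [mul_assoc]), hback]
      simp only [mul_assoc]
      rw [hA, mul_one, LinearMap.trace_mul_comm]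
      simp only [mul_assoc]
      rw [← map_mul, inv_mul_cancel, map_one, mul_one]
    · rw [show g * ((φ x l : L) : G) = (x : G) * (g * (l : G)) * (x : G)⁻¹ by
        simp [φ, mul_assoc]]
      exact hD _ _
  let N : L → ℕ := fun l => (Finset.univ.filter fun x : L =>
    (⟨g⁻¹ * x * g, hgi x⟩ : L)⁻¹ * l * x ∈ jL.range).card
  have hN : ∀ l, F l ≠ 0 → N l = N 1 := by
    intro l hl
    have hns : ¬ Sing p j.range (g * l) := fun h => hl (by simp only [F, hsing _ h, mul_zero])
    obtain ⟨y, hy, r, hr, hyr⟩ := exists_conj_regular j.range L hpow hle l.2 hg hns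
    refine Finset.card_equiv (Equiv.mulLeft (⟨y, hy⟩ : L)⁻¹) fun x => ?_
    simp only [Finset.mem_filter, Finset.mem_univ, true_and, Equiv.coe_mulLeft, mul_one]
    have key : ∀ v : L, v ∈ jL.range ↔ (v : G) ∈ j.range := fun v =>
      exists_congr fun k => ⟨congrArg Subtype.val, fun h => Subtype.ext h⟩
    rw [key, key]
    simp only [Subgroup.coe_mul, Subgroup.coe_inv, mul_inv_rev, inv_inv]
    have hl' : (l : G) = g⁻¹ * y * g * r * y⁻¹ := by
      calc (l : G) = g⁻¹ * (g * l) := by group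
        _ = _ := by rw [hyr]; group
    set v := g⁻¹ * (y⁻¹ * (x : G)) * g with hv
    set w := y⁻¹ * (x : G) with hw
    have e1 : g⁻¹ * ((x : G)⁻¹ * g) * (l : G) * x = (v⁻¹ * r * v) * (v⁻¹ * w) := by
      rw [hl', hv, hw]; group
    have e2 : g⁻¹ * ((x : G)⁻¹ * y * g) * (y⁻¹ * x) = v⁻¹ * w := by
      rw [hv, hw]; group
    rw [e1, e2]
    have hc : v⁻¹ * r * v ∈ j.range := by
      simpa using (hs.normal).conj_mem r hr v⁻¹
    exact ⟨fun h => by
      have := mul_mem (inv_mem hc) h
      rwa [inv_mul_cancel_left] at this, fun h => mul_mem hc h⟩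
  have hinj : ∀ x, Function.Injective fun k => φ x (jL k) := fun x a b h => by
    refine hj ?_
    have h' := mul_left_cancel (mul_right_cancel h)
    exact congrArg Subtype.val h'
  have hcount : (Nat.card L : ℂ) * ∑ k, F (jL k) = (N 1 : ℂ) * ∑ l, F l := by
    calc (Nat.card L : ℂ) * ∑ k, F (jL k)
        = ∑ x : L, ∑ k, F (φ x (jL k)) := by
          simp only [hFφ, Finset.sum_const, Finset.card_univ, nsmul_eq_mul, Nat.card_eq_fintype_card]
      _ = ∑ x : L, ∑ l, if (⟨g⁻¹ * x * g, hgi x⟩ : L)⁻¹ * l * x ∈ jL.range then F l else 0 := by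
          refine Finset.sum_congr rfl fun x _ => ?_
          rw [← Finset.sum_filter]
          refine Finset.sum_bij (fun k _ => φ x (jL k)) (fun k _ => ?_) (fun a _ b _ h => hinj x h)
            (fun l hl => ?_) fun k _ => rfl
          · refine Finset.mem_filter.mpr ⟨Finset.mem_univ _, k, ?_⟩
            simp [φ, mul_assoc]
          · obtain ⟨k, hk⟩ := (Finset.mem_filter.mp hl).2
            exact ⟨k, Finset.mem_univ _, by simp only [φ, hk]; group⟩
      _ = ∑ l, (N l : ℂ) * F l := by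
          rw [Finset.sum_comm]
          refine Finset.sum_congr rfl fun l _ => ?_
          rw [← Finset.sum_filter, Finset.sum_const, nsmul_eq_mul]
      _ = _ := by
          rw [Finset.mul_sum]
          refine Finset.sum_congr rfl fun l _ => ?_
          by_cases hl : F l = 0
          · simp [hl]
          · rw [hN l hl]
  rw [hFsum, mul_zero] at hcount
  have hK0 := (mul_eq_zero.mp hcount).resolve_left CT.card_ne_zero
  have e : ∀ k, F (jL k) = cc * (LinearMap.trace ℂ _ (A' * σ k⁻¹) * LinearMap.trace ℂ _ (A * σ k)) := by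
    intro k
    simp only [F, Ψ]
    rw [show D (g * (jL k : G)) = f k from rfl, ← htr k, hX, smul_mul_assoc, map_smul, smul_eq_mul,
      LinearMap.trace_mul_comm ℂ (τ (jL k)⁻¹) A',
      show τ (jL k)⁻¹ = σ k⁻¹ by simp [σ]]
    ring
  rw [Finset.sum_congr rfl fun k _ => e k, ← Finset.mul_sum, schur_trace σ A' A, hA',
    LinearMap.trace_one, Module.finrank_fin_fun, div_mul_cancel₀ _ hn0] at hK0
  have hcc0 := (mul_eq_zero.mp hK0).resolve_right CT.card_ne_zero
  have h1 : f 1 = 0 := by rw [← htr 1, hX, hcc0, zero_smul, zero_mul, map_zero]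
  simpa [f] using h1

end Cfsg.Agent.RelUnion
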