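import Cfsg.Agent.Lib.Blocks.RelUnion.Basic

/-!
# Characters over a stable character given along a homomorphism
-/

set_option autoImplicit false
set_option linter.unusedSectionVars false
set_option linter.style.haveILetI false

namespace Cfsg.Agent.RelUnion

open Cfsg.Agent Blocks MonoidAlgebra
open scoped ComplexConjugate

universe u

variable {G K : Type u} [Group G] [Fintype G] [Group K] [Fintype K]

/-- `χ` lies over `θ` along `j`. -/
def Over (j : K →* G) (θ : Cfsg.IrrCharacter K) (χ : G → ℂ) : Prop :=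
  Cfsg.classInner (fun k => χ (j k)) (θ : K → ℂ) ≠ 0

/-- The image of `j` is normal and `θ` is stable in `G`. -/
def Stable (j : K →* G) (θ : Cfsg.IrrCharacter K) : Prop :=
  ∀ (g : G) (k : K), ∃ k', j k' = g * j k * g⁻¹ ∧ (θ : K → ℂ) k' = (θ : K → ℂ) k

theorem stable_id (θ : Cfsg.IrrCharacter K) : Stable (MonoidHom.id K) θ := fun g k =>
  ⟨g * k * g⁻¹, rfl, CT.isClassFunction_of_isIrr θ.2 k g⟩

theorem Stable.normal {j : K →* G} {θ : Cfsg.IrrCharacter K} (h : Stable j θ) : j.range.Normal :=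
  ⟨by rintro _ ⟨k, rfl⟩ g; obtain ⟨k', hk', -⟩ := h g k; exact ⟨k', hk'⟩⟩

/-- The idempotent of `θ`. -/
noncomputable abbrev eOf (θ : Cfsg.IrrCharacter K) : MonoidAlgebra ℂ K := idemC {θ}

theorem coeff_eOf (θ : Cfsg.IrrCharacter K) (k : K) :
    (eOf θ).coeff k = (θ : K → ℂ) 1 / (Nat.card K : ℂ) * (θ : K → ℂ) k⁻¹ := by
  rw [eOf, idemC, coeff_ofFun, Cfsg.blockCoeff, finsum_mem_singleton,
    CT.char_inv_eq_conj (CT.isCharacter_of_isIrr θ.2)]
  ring

theorem ev_eOf (j : K →* G) (θ : Cfsg.IrrCharacter K) (χ : G → ℂ) :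
    ev χ (emb j (eOf θ)) =
      (θ : K → ℂ) 1 * Cfsg.classInner (fun k => χ (j k)) (θ : K → ℂ) := by
  rw [ev_emb, ev_eq_sum, Cfsg.classInner, Finset.mul_sum, Finset.mul_sum]
  refine Finset.sum_congr rfl fun k _ => ?_
  rw [coeff_eOf, CT.char_inv_eq_conj (CT.isCharacter_of_isIrr θ.2)]
  ring

theorem emb_eOf_center {j : K →* G} {θ : Cfsg.IrrCharacter K} (hj : Function.Injective j)
    (hs : Stable j θ) : emb j (eOf θ) ∈ Subring.center (MonoidAlgebra ℂ G) := by
  rw [mem_center_iff_isClassFn]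
  intro u g
  by_cases hu : ∃ k, j k = u
  · obtain ⟨k, rfl⟩ := hu
    obtain ⟨k', hk', hθ⟩ := hs g k
    simp only [← hk', coeff_emb hj, coeff_eOf, CT.char_inv_eq_conj (CT.isCharacter_of_isIrr θ.2), hθ]
  · push Not at hu
    show (emb j (eOf θ)).coeff (g * u * g⁻¹) = (emb j (eOf θ)).coeff u
    rw [coeff_emb_of_notMem j _ hu, coeff_emb_of_notMem]
    intro k hk
    obtain ⟨k', hk', -⟩ := hs g⁻¹ k
    exact hu k' (by rw [hk', hk]; group)

variable {j : K →* G} {θ : Cfsg.IrrCharacter K}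

open Classical in
theorem acts_eOf (hj : Function.Injective j) (hs : Stable j θ) (χ : Cfsg.IrrCharacter G) :
    Acts (χ : G → ℂ) (emb j (eOf θ)) (if Over j θ (χ : G → ℂ) then 1 else 0) := by
  have hc := emb_eOf_center hj hs
  have h := acts_central χ.2 hc
  have hi : omega (χ : G → ℂ) (emb j (eOf θ)) * omega (χ : G → ℂ) (emb j (eOf θ)) =
      omega (χ : G → ℂ) (emb j (eOf θ)) := by
    rw [← omega_mul χ.2 hc, ← map_mul, idemC_mul_self]
  have hv : omega (χ : G → ℂ) (emb j (eOf θ)) = 0 ↔ ¬ Over j θ (χ : G → ℂ) := by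
    rw [omega, ev_eOf, div_eq_zero_iff, mul_eq_zero, Over, not_not]
    simp [CT.irr_one_ne_zero χ.2, CT.irr_one_ne_zero θ.2]
  by_cases ho : Over j θ (χ : G → ℂ)
  · rw [if_pos ho]
    rwa [(mul_eq_right₀ (fun h0 => (hv.mp h0) ho)).mp hi] at h
  · rw [if_neg ho]
    rwa [hv.mpr ho] at h

theorem acts_eOf_of_over (hj : Function.Injective j) (hs : Stable j θ) {χ : Cfsg.IrrCharacter G}
    (ho : Over j θ (χ : G → ℂ)) : Acts (χ : G → ℂ) (emb j (eOf θ)) 1 := by
  classical
  have := acts_eOf hj hs χ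
  rwa [if_pos ho] at this

theorem emb_eOf_eq (hj : Function.Injective j) (hs : Stable j θ) :
    emb j (eOf θ) = idemC {χ : Cfsg.IrrCharacter G | Over j θ (χ : G → ℂ)} := by
  classical
  refine ext_ev fun χ b => ?_
  rw [acts_eOf hj hs χ b, acts_idemC _ b]
  rfl

theorem over_iff_of_constituent {H : Type u} [Group H] [Fintype H] {i : K →* H} {l : H →* G}
    (hi : Function.Injective i) (hl : Function.Injective l) (hsi : Stable i θ)
    (hsj : Stable (l.comp i) θ) {χ : Cfsg.IrrCharacter G} {ω : Cfsg.IrrCharacter H}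
    (hm : Cfsg.classInner (fun h => (χ : G → ℂ) (l h)) (ω : H → ℂ) ≠ 0) :
    Over (l.comp i) θ (χ : G → ℂ) ↔ Over i θ (ω : H → ℂ) := by
  classical
  have hne : ev (χ : G → ℂ) (emb l (eOf ω)) ≠ 0 := by
    rw [ev_eOf]
    exact mul_ne_zero (CT.irr_one_ne_zero ω.2) hm
  have hprod : eOf ω * emb i (eOf θ) = if Over i θ (ω : H → ℂ) then eOf ω else 0 := by
    refine ext_ev fun η b => ?_
    rw [((acts_idemC {ω}).mul (acts_eOf hi hsi η)) b]
    by_cases he : η = ω
    · subst he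
      by_cases ho : Over i θ (η : H → ℂ)
      · simp only [ho, if_true, Set.mem_singleton_iff, one_mul, mul_one]
        rw [acts_idemC {η} b]
        simp
      · simp [ho]
    · by_cases ho : Over i θ (ω : H → ℂ)
      · rw [if_pos ho, acts_idemC {ω} b]
        simp [he]
      · simp [ho, he]
  have h1 := acts_eOf (j := l.comp i) (θ := θ) (hl.comp hi) hsj χ (emb l (eOf ω))
  rw [← emb_emb, ← map_mul, hprod] at h1
  by_cases ho : Over i θ (ω : H → ℂ)
  · rw [if_pos ho] at h1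
    refine iff_of_true ?_ ho
    by_contra hn
    rw [if_neg hn, zero_mul] at h1
    exact hne h1
  · rw [if_neg ho, map_zero, ev_zero] at h1
    refine iff_of_false (fun hn => ?_) ho
    rw [if_pos hn, one_mul] at h1
    exact hne h1.symm

/-- Functions reproduced by the idempotent of `θ`. -/
def Rep (θ : Cfsg.IrrCharacter K) (f : K → ℂ) : Prop :=
  ∀ k, ∑ z, (eOf θ).coeff z * f (z * k) = f k

theorem rep_of_over (hj : Function.Injective j) (hs : Stable j θ) {χ : Cfsg.IrrCharacter G}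
    (ho : Over j θ (χ : G → ℂ)) (b : MonoidAlgebra ℂ G) :
    Rep θ fun k => ev (χ : G → ℂ) (b * single (j k) 1) := by
  intro k
  have hc := isClassFn_irr χ
  have e : ∀ z, ev (χ : G → ℂ) (b * single (j (z * k)) 1) =
      ev (χ : G → ℂ) (single (j k) 1 * b * single (j z) 1) := fun z => by
    rw [map_mul, show single (j z * j k) (1 : ℂ) = single (j z) 1 * single (j k) 1 by simp,
      ← mul_assoc, ev_mul_comm hc (b * single (j z) 1), ← mul_assoc]
  simp only [e]
  rw [← ev_mul_emb, acts_eOf_of_over hj hs ho, one_mul, ev_mul_comm hc]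

theorem rep_of_over' (hj : Function.Injective j) (hs : Stable j θ) {χ : Cfsg.IrrCharacter G}
    (ho : Over j θ (χ : G → ℂ)) (x y : G) :
    Rep θ fun k => (χ : G → ℂ) (x * j k * y) := by
  intro k
  have h := rep_of_over hj hs ho (single (y * x) (1 : ℂ)) k
  simp only [single_mul_single, mul_one, ev_single, one_mul] at h
  have e : ∀ w : G, (χ : G → ℂ) (y * x * w) = (χ : G → ℂ) (x * w * y) := fun w => by
    rw [mul_assoc y, (isClassFn_irr χ).mul_comm]
  simp only [e] at h
  exact h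

theorem rep_translate (θ : Cfsg.IrrCharacter K) (x : K) : Rep θ fun k => (θ : K → ℂ) (x * k) := by
  have h := rep_of_over' (j := MonoidHom.id K) (θ := θ) Function.injective_id (stable_id θ) (χ := θ)
    (show Cfsg.classInner (θ : K → ℂ) (θ : K → ℂ) ≠ 0 by rw [CT.irr_inner_self θ.2]; exact one_ne_zero)
    x 1
  simpa using h

theorem Rep.expand {f : K → ℂ} (h : Rep θ f) (k : K) :
    f k = ∑ w, ((θ : K → ℂ) 1 / (Nat.card K : ℂ) * f w⁻¹) * (θ : K → ℂ) (w * k) := by
  conv_lhs => rw [← h k]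
  refine Fintype.sum_equiv ((Equiv.mulRight k).trans (Equiv.inv K)) _ _ fun z => ?_
  simp only [Equiv.trans_apply, Equiv.coe_mulRight, Equiv.inv_apply, coeff_eOf, inv_inv]
  rw [show (θ : K → ℂ) ((z * k)⁻¹ * k) = (θ : K → ℂ) z⁻¹ by
    rw [(isClassFn_irr θ).mul_comm]; congr 1; group]
  ring

/-- The pairing of two functions. -/
noncomputable def pair (θ : Cfsg.IrrCharacter K) (f f' : K → ℂ) : ℂ :=
  (θ : K → ℂ) 1 / (Nat.card K : ℂ) * ∑ k, f k⁻¹ * f' k

theorem pair_translate (θ : Cfsg.IrrCharacter K) (x y : K) :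
    pair θ (fun k => (θ : K → ℂ) (x * k)) (fun k => (θ : K → ℂ) (y * k)) = (θ : K → ℂ) (x * y) := by
  have h := rep_translate θ y x
  simp only at h
  rw [(isClassFn_irr θ).mul_comm x y, ← h, pair, Finset.mul_sum]
  refine Fintype.sum_equiv (Equiv.mulRight x⁻¹) _ _ fun k => ?_
  simp only [Equiv.coe_mulRight, coeff_eOf, inv_mul_cancel_right, mul_inv_rev, inv_inv]
  ring

/-- A Casimir element for `θ`. -/
def Cas (θ : Cfsg.IrrCharacter K) (c : K → K → ℂ) : Prop :=
  ∀ x y, ∑ k, ∑ k', c k k' * (θ : K → ℂ) (x * k) * (θ : K → ℂ) (y * k') = (θ : K → ℂ) (x * y)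

theorem Cas.bil {c : K → K → ℂ} (hc : Cas θ c) {f f' : K → ℂ} (hf : Rep θ f) (hf' : Rep θ f') :
    ∑ k, ∑ k', c k k' * f k * f' k' = pair θ f f' := by
  let a : K → ℂ := fun w => (θ : K → ℂ) 1 / (Nat.card K : ℂ) * f w⁻¹
  let b : K → ℂ := fun w => (θ : K → ℂ) 1 / (Nat.card K : ℂ) * f' w⁻¹
  have ea : ∀ k, f k = ∑ w, a w * (θ : K → ℂ) (w * k) := hf.expand
  have eb : ∀ k, f' k = ∑ w, b w * (θ : K → ℂ) (w * k) := hf'.expand
  calc ∑ k, ∑ k', c k k' * f k * f' k'
      = ∑ k, ∑ k', ∑ v, ∑ w, a v * b w *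
          (c k k' * (θ : K → ℂ) (v * k) * (θ : K → ℂ) (w * k')) := by
        refine Finset.sum_congr rfl fun k _ => Finset.sum_congr rfl fun k' _ => ?_
        rw [ea k, eb k', mul_assoc, Finset.sum_mul_sum, Finset.mul_sum]
        refine Finset.sum_congr rfl fun v _ => ?_
        rw [Finset.mul_sum]
        exact Finset.sum_congr rfl fun w _ => by ring
    _ = ∑ k, ∑ v, ∑ k', ∑ w, a v * b w *
          (c k k' * (θ : K → ℂ) (v * k) * (θ : K → ℂ) (w * k')) :=
        Finset.sum_congr rfl fun k _ => Finset.sum_comm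
    _ = ∑ v, ∑ k, ∑ w, ∑ k', a v * b w *
          (c k k' * (θ : K → ℂ) (v * k) * (θ : K → ℂ) (w * k')) := by
        rw [Finset.sum_comm]
        exact Finset.sum_congr rfl fun v _ => Finset.sum_congr rfl fun k _ => Finset.sum_comm
    _ = ∑ v, ∑ w, a v * b w * (θ : K → ℂ) (v * w) := by
        refine Finset.sum_congr rfl fun v _ => ?_
        rw [Finset.sum_comm]
        refine Finset.sum_congr rfl fun w _ => ?_
        simp only [← Finset.mul_sum]
        rw [hc v w]
    _ = ∑ v, ∑ w, a v * b w * pair θ (fun k => (θ : K → ℂ) (v * k)) (fun k => (θ : K → ℂ) (w * k)) :=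
        Finset.sum_congr rfl fun v _ => Finset.sum_congr rfl fun w _ => by rw [pair_translate]
    _ = ∑ v, ∑ w, ∑ k, (θ : K → ℂ) 1 / (Nat.card K : ℂ) *
          (a v * (θ : K → ℂ) (v * k⁻¹) * (b w * (θ : K → ℂ) (w * k))) := by
        refine Finset.sum_congr rfl fun v _ => Finset.sum_congr rfl fun w _ => ?_
        simp only [pair, Finset.mul_sum]
        exact Finset.sum_congr rfl fun k _ => by ring
    _ = ∑ k, ∑ v, ∑ w, (θ : K → ℂ) 1 / (Nat.card K : ℂ) *
          (a v * (θ : K → ℂ) (v * k⁻¹) * (b w * (θ : K → ℂ) (w * k))) := by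
        conv_rhs => rw [Finset.sum_comm]
        exact Finset.sum_congr rfl fun v _ => Finset.sum_comm
    _ = pair θ f f' := by
        rw [pair, Finset.mul_sum]
        refine Finset.sum_congr rfl fun k _ => ?_
        rw [ea k⁻¹, eb k, Finset.sum_mul_sum, Finset.mul_sum]
        exact Finset.sum_congr rfl fun v _ => (Finset.mul_sum _ _ _).symm

end Cfsg.Agent.RelUnion
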