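import Cfsg.Agent.Lib.Blocks.RelUnion.StepPrime
import Cfsg.Agent.Lib.Blocks.RelUnion.Idem
import Cfsg.Agent.Lib.CT.SmallDegree

/-!
# The character of an idempotent over a stable character vanishes at relatively singular elements
-/

set_option autoImplicit false
set_option linter.unusedSectionVars false
set_option linter.style.haveILetI false

namespace Cfsg.Agent.RelUnion

open Cfsg.Agent Blocks MonoidAlgebra
open scoped ComplexConjugate

universe u

variable {G K : Type u} [Group G] [Fintype G] [Group K] [Fintype K] {p : ℕ}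
  {M : Ideal Cfsg.AlgInt} [M.IsPrime]

theorem not_dvd_of_not_sing {R : Subgroup G} [R.Normal] {g : G} :
    ¬ Sing p R g ↔ ¬ p ∣ orderOf (g : G ⧸ R) := by
  refine ⟨fun h h' => h fun m hm => h'.trans ?_, fun h h' => h (h' _ ?_)⟩
  · rw [orderOf_dvd_iff_pow_eq_one, ← QuotientGroup.mk_pow, QuotientGroup.eq_one_iff]
    exact hm
  · rw [← QuotientGroup.eq_one_iff, QuotientGroup.mk_pow, pow_orderOf_eq_one]

open Classical in
theorem sum_over_eq_zero (hM : Cfsg.IsPModular p M) {j : K →* G} {θ : Cfsg.IrrCharacter K}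
    (hj : Function.Injective j) (hs : Stable j θ) {ε : MonoidAlgebra (Loc M) G} (hε : ε * ε = ε)
    {g : G} (hg : Sing p j.range g) :
    ∑ χ : Cfsg.IrrCharacter G, (if Over j θ (χ : G → ℂ) then
      ev (χ : G → ℂ) (toC M G ε) else 0) * (χ : G → ℂ) g = 0 := by
  haveI : Fact p.Prime := ⟨hM.1⟩
  haveI := hs.normal
  have hgn : p ∣ orderOf (g : G ⧸ j.range) := by
    by_contra h
    exact not_dvd_of_not_sing.mpr h hg
  set H : Subgroup G := Subgroup.zpowers g ⊔ j.range with hH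
  haveI := Fintype.ofFinite H
  have hgH : g ∈ H := (le_sup_left : _ ≤ H) (Subgroup.mem_zpowers g)
  -- a linear character of order `p`
  have himg : ∀ h : H, ((h : G) : G ⧸ j.range) ∈ Subgroup.zpowers (g : G ⧸ j.range) := by
    intro h
    obtain ⟨a, ha, b, hb, hab⟩ := Subgroup.mem_sup_of_normal_right.mp h.2
    obtain ⟨i, rfl⟩ := Subgroup.mem_zpowers_iff.mp ha
    rw [← hab, QuotientGroup.mk_mul, (QuotientGroup.eq_one_iff b).mpr hb, mul_one,
      QuotientGroup.mk_zpow]
    exact zpow_mem (Subgroup.mem_zpowers _) i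
  obtain ⟨ζ, hζ⟩ : ∃ ζ : ℂ, IsPrimitiveRoot ζ p :=
    ⟨_, Complex.isPrimitiveRoot_exp p hM.1.ne_zero⟩
  let u : ℂˣ := (hζ.isUnit hM.1.ne_zero).unit
  let q₀ : Subgroup.zpowers (g : G ⧸ j.range) := ⟨g, Subgroup.mem_zpowers _⟩
  have hgen : ∀ x : Subgroup.zpowers (g : G ⧸ j.range), x ∈ Subgroup.zpowers q₀ := fun x => by
    obtain ⟨i, hi⟩ := Subgroup.mem_zpowers_iff.mp x.2
    exact Subgroup.mem_zpowers_iff.mpr ⟨i, Subtype.ext (by simpa [q₀] using hi)⟩
  have hu : orderOf u ∣ orderOf q₀ := by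
    refine dvd_trans (orderOf_dvd_of_pow_eq_one (n := p) (Units.ext ?_)) ?_
    · simp [u, hζ.pow_eq_one]
    · rw [Subgroup.orderOf_mk]; exact hgn
  let μ : H →* ℂˣ := (monoidHomOfForallMemZpowers hgen hu).comp
    (((QuotientGroup.mk' j.range).comp H.subtype).codRestrict _ himg)
  have hμg : μ ⟨g, hgH⟩ = u := monoidHomOfForallMemZpowers_apply_gen hgen hu
  have hμp : ∀ h, μ h ^ p = 1 := fun h => by
    simp only [μ, MonoidHom.comp_apply]
    obtain ⟨i, hi⟩ := Subgroup.mem_zpowers_iff.mp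
      (hgen (((QuotientGroup.mk' j.range).comp H.subtype).codRestrict _ himg h))
    rw [← hi, map_zpow, monoidHomOfForallMemZpowers_apply_gen, ← zpow_natCast, ← zpow_mul,
      mul_comm, zpow_mul, zpow_natCast,
      show u ^ p = 1 from Units.ext (by simp [u, hζ.pow_eq_one]), one_zpow]
  let iH : K →* H := j.codRestrict H fun k => (le_sup_right : _ ≤ H) ⟨k, rfl⟩
  have hiH : Function.Injective iH := fun a b h => hj (congrArg Subtype.val h)
  have hsH : Stable iH θ := fun h k => by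
    obtain ⟨k', hk', hθ⟩ := hs (h : G) k
    exact ⟨k', Subtype.ext hk', hθ⟩
  have hμK : ∀ k, μ (iH k) = 1 := fun k => by
    have e : ((QuotientGroup.mk' j.range).comp H.subtype).codRestrict _ himg (iH k) = 1 := by
      refine Subtype.ext ((QuotientGroup.eq_one_iff _).mpr ?_)
      exact ⟨k, rfl⟩
    simp only [μ, MonoidHom.comp_apply, e, map_one]
  have hμreg : ∀ h : H, ¬ p ∣ orderOf h → μ h = 1 := fun h hh =>
    orderOf_eq_one_iff.mp (Nat.eq_one_of_dvd_coprimes
      ((hM.1.coprime_iff_not_dvd).mpr hh) (orderOf_dvd_of_pow_eq_one (hμp h))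
      (orderOf_map_dvd μ h))
  let tw : Cfsg.IrrCharacter H → Cfsg.IrrCharacter H := fun ω =>
    ⟨fun h => (μ h : ℂ) * (ω : H → ℂ) h, CT.SmallDeg.isIrr_lin_mul μ ω.2⟩
  have htw : Function.Bijective tw := Finite.injective_iff_bijective.mp fun a b hab =>
    Subtype.ext (funext fun h => mul_left_cancel₀ (Units.ne_zero _)
      (congrFun (congrArg Subtype.val hab) h))
  let coef : Cfsg.IrrCharacter G → ℂ := fun χ =>
    if Over j θ (χ : G → ℂ) then ev (χ : G → ℂ) (toC M G ε) else 0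
  let m : Cfsg.IrrCharacter H → ℂ := fun ω =>
    ∑ χ, coef χ * Cfsg.classInner (fun h : H => (χ : G → ℂ) h) (ω : H → ℂ)
  have hres := fun χ : Cfsg.IrrCharacter G => CT.isCharacter_restrict H (CT.isCharacter_of_isIrr χ.2)
  have hiff : ∀ (χ : Cfsg.IrrCharacter G) (ω : Cfsg.IrrCharacter H),
      Cfsg.classInner (fun h : H => (χ : G → ℂ) h) (ω : H → ℂ) ≠ 0 →
        (Over j θ (χ : G → ℂ) ↔ Over iH θ (ω : H → ℂ)) := fun χ ω h =>
    over_iff_of_constituent (i := iH) (l := H.subtype) hiH H.subtype_injective hsH hs h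
  have hm0 : ∀ ω : Cfsg.IrrCharacter H, ¬ Over iH θ (ω : H → ℂ) → m ω = 0 := by
    intro ω ho
    refine Finset.sum_eq_zero fun χ _ => ?_
    by_cases hz : Cfsg.classInner (fun h : H => (χ : G → ℂ) h) (ω : H → ℂ) = 0
    · rw [hz, mul_zero]
    · simp only [coef, if_neg (fun h => ho ((hiff χ ω hz).mp h)), zero_mul]
  have hm1 : ∀ ω : Cfsg.IrrCharacter H, Over iH θ (ω : H → ℂ) →
      m ω = ev (Cfsg.indFun H (ω : H → ℂ)) (toC M G ε) := by
    intro ω ho
    have hind := CT.isCharacter_indFun H (CT.isCharacter_of_isIrr ω.2)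
    conv_rhs => rw [CT.character_eq_sum hind, ev_sum_smul_fun]
    refine Finset.sum_congr rfl fun χ _ => ?_
    have e : (CT.mult (Cfsg.indFun H (ω : H → ℂ)) (χ : G → ℂ) : ℂ) =
        Cfsg.classInner (fun h : H => (χ : G → ℂ) h) (ω : H → ℂ) := by
      rw [← CT.mult_spec hind (CT.isCharacter_of_isIrr χ.2),
        CT.frobenius_reciprocity H _ (CT.isClassFunction_of_isIrr χ.2),
        CT.classInner_comm_of_char (CT.isCharacter_of_isIrr ω.2) (hres χ)]
    rw [e]
    by_cases hz : Cfsg.classInner (fun h : H => (χ : G → ℂ) h) (ω : H → ℂ) = 0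
    · rw [hz, mul_zero, zero_mul]
    · simp only [coef, if_pos ((hiff χ ω hz).mpr ho)]
      ring
  have hover : ∀ ω, Over iH θ (tw ω : H → ℂ) ↔ Over iH θ (ω : H → ℂ) := fun ω => by
    simp only [Over, tw, hμK, Units.val_one, one_mul]
  have hmtw : ∀ ω, m (tw ω) = m ω := by
    intro ω
    by_cases ho : Over iH θ (ω : H → ℂ)
    · rw [hm1 _ ((hover ω).mpr ho), hm1 _ ho]
      have hint : ∀ (η : Cfsg.IrrCharacter H) (x : G),
          Cfsg.indFun H (η : H → ℂ) x ∈ Loc M := fun η x =>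
        integral_mem_loc (CT.isIntegral_isCharacter
          (CT.isCharacter_indFun H (CT.isCharacter_of_isIrr η.2)) x)
      let A : G → Loc M := fun x => ⟨_, hint (tw ω) x⟩ - ⟨_, hint ω x⟩
      have hA : IsClassFn A := fun x y => Subtype.ext (by
        simp only [A, AddSubgroupClass.coe_sub]
        rw [CT.isClassFunction_indFun H _ x y, CT.isClassFunction_indFun H _ x y])
      have hA0 : ∀ x, ¬ p ∣ orderOf x → A x = 0 := fun x hx => Subtype.ext (by
        simp only [A, AddSubgroupClass.coe_sub, ZeroMemClass.coe_zero, sub_eq_zero, Cfsg.indFun]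
        congr 1
        refine Finset.sum_congr rfl fun y _ => ?_
        by_cases hy : y⁻¹ * x * y ∈ H
        · rw [CT.extendByZero_mem H _ hy, CT.extendByZero_mem H _ hy]
          have h1 : μ ⟨_, hy⟩ = 1 := hμreg _ (by
            rw [Subgroup.orderOf_mk]
            rwa [show y⁻¹ * x * y = MulAut.conj y⁻¹ x by simp, MulEquiv.orderOf_eq])
          simp [tw, h1]
        · rw [CT.extendByZero_not_mem H _ hy, CT.extendByZero_not_mem H _ hy])
      have h0 := congrArg (fun z : Loc M => (z : ℂ)) (ev_idem_eq_zero hM hε hA hA0)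
      simp only [coe_ev, ZeroMemClass.coe_zero] at h0
      rw [← sub_eq_zero, ← h0, ev_eq_sum, ev_eq_sum, ev_eq_sum, ← Finset.sum_sub_distrib]
      exact Finset.sum_congr rfl fun x _ => by
        simp only [A, AddSubgroupClass.coe_sub]
        ring
    · rw [hm0 _ ho, hm0 _ (fun h => ho ((hover ω).mp h))]
  have hS : ∑ χ, coef χ * (χ : G → ℂ) g = ∑ ω, m ω * (ω : H → ℂ) ⟨g, hgH⟩ := by
    simp only [m, Finset.sum_mul]
    rw [Finset.sum_comm]
    refine Finset.sum_congr rfl fun χ _ => ?_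
    have h1 := congrFun (CT.classFunction_eq_sum (CT.isClassFunction_of_isCharacter (hres χ))) ⟨g, hgH⟩
    simp only [Finset.sum_apply, Pi.smul_apply, smul_eq_mul] at h1
    rw [h1, Finset.mul_sum]
    exact Finset.sum_congr rfl fun ω _ => (mul_assoc _ _ _).symm
  have hkey : ∑ ω, m ω * (ω : H → ℂ) ⟨g, hgH⟩ = ζ * ∑ ω, m ω * (ω : H → ℂ) ⟨g, hgH⟩ := by
    conv_lhs => rw [← htw.sum_comp fun ω => m ω * (ω : H → ℂ) ⟨g, hgH⟩]
    rw [Finset.mul_sum]
    refine Finset.sum_congr rfl fun ω _ => ?_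
    rw [hmtw]
    simp only [tw, hμg]
    simp [u]
    ring
  rw [show (∑ χ : Cfsg.IrrCharacter G, (if Over j θ (χ : G → ℂ) then
      ev (χ : G → ℂ) (toC M G ε) else 0) * (χ : G → ℂ) g) = ∑ χ, coef χ * (χ : G → ℂ) g from rfl, hS]
  exact ((mul_eq_zero.mp (show (1 - ζ) * (∑ ω, m ω * (ω : H → ℂ) ⟨g, hgH⟩) = 0 by
    linear_combination hkey)).resolve_left (sub_ne_zero.mpr (hζ.ne_one hM.1.one_lt).symm))

end Cfsg.Agent.RelUnion
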