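import Cfsg.Agent.Lib.Blocks.RelUnion.Regular
import Cfsg.Agent.Lib.CT.RelCorrBase

/-!
# Going up through a normal `p`-section
-/

set_option autoImplicit false
set_option linter.unusedSectionVars false
set_option linter.style.haveILetI false

namespace Cfsg.Agent.RelUnion

open Cfsg.Agent Blocks Blocks.IsoBlocks MonoidAlgebra
open scoped ComplexConjugate

universe u

variable {G K : Type u} [Group G] [Fintype G] [Group K] [Fintype K] {p : ℕ}
  {M : Ideal Cfsg.AlgInt} [M.IsPrime]

/-- The canonical extension to a normal `p`-section. -/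
theorem exists_stable_ext [hp : Fact p.Prime] {j : K →* G} {θ : Cfsg.IrrCharacter K}
    (hj : Function.Injective j) (hs : Stable j θ) (L : Subgroup G) [hL : L.Normal] [Fintype L]
    (hle : j.range ≤ L) (hpow : ∃ n, j.range.relIndex L = p ^ n)
    (hdeg : ¬ p ∣ CT.deg (θ : K → ℂ)) (hdet : ¬ p ∣ Cfsg.detOrder (θ : K → ℂ)) :
    ∃ η : Cfsg.IrrCharacter L, (∀ k, (η : L → ℂ) ⟨j k, hle ⟨k, rfl⟩⟩ = (θ : K → ℂ) k) ∧
      (∀ (g : G) (l : L), (η : L → ℂ) ⟨g * l * g⁻¹, hL.conj_mem l l.2 g⟩ = (η : L → ℂ) l) ∧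
      ¬ p ∣ CT.deg (η : L → ℂ) ∧ ¬ p ∣ Cfsg.detOrder (η : L → ℂ) := by
  haveI := hs.normal
  let jL : K →* L := j.codRestrict L fun k => hle ⟨k, rfl⟩
  have hjL : Function.Injective jL := fun a b h => hj (congrArg Subtype.val h)
  have hrange : jL.range = j.range.subgroupOf L := by
    ext x
    simp only [MonoidHom.mem_range, Subgroup.mem_subgroupOf]
    exact exists_congr fun k => ⟨congrArg Subtype.val, fun h => Subtype.ext h⟩
  have hsL : Stable jL θ := fun g k => by
    obtain ⟨k', hk', hθ⟩ := hs (g : G) k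
    exact ⟨k', Subtype.ext hk', hθ⟩
  haveI := hsL.normal
  haveI := Fintype.ofFinite jL.range
  let e : K ≃* jL.range := MonoidHom.ofInjective hjL
  let φ : Cfsg.IrrCharacter jL.range :=
    ⟨fun r => (θ : K → ℂ) (e.symm r), CT.isIrrCharacter_comp e.symm.toMonoidHom e.symm.surjective θ.2⟩
  obtain ⟨n, hn⟩ := hpow
  have hidx : jL.range.index = p ^ n := by rw [hrange]; exact hn
  have hφd : CT.deg (φ : jL.range → ℂ) = CT.deg (θ : K → ℂ) := by simp [CT.deg, φ]
  have hφo : Cfsg.detOrder (φ : jL.range → ℂ) ∣ Cfsg.detOrder (θ : K → ℂ) :=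
    RelCorr.detOrder_comp_dvd e.symm.toMonoidHom (CT.isCharacter_of_isIrr θ.2)
  have hφo' : ¬ p ∣ Cfsg.detOrder (φ : jL.range → ℂ) := fun h => hdet (h.trans hφo)
  have hcop : ∀ {a : ℕ}, ¬ p ∣ a → jL.range.index.Coprime a := fun h => by
    rw [hidx]
    exact ((hp.out.coprime_iff_not_dvd).mpr h).pow_left n
  obtain ⟨η, ⟨hres, hdo⟩, huniq⟩ := CoprimeExt.exists_coprime_ext jL.range φ (fun g r => by
    obtain ⟨k, hk⟩ := r.2
    obtain rfl : e k = r := Subtype.ext hk
    obtain ⟨k', hk', hθ⟩ := hsL g k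
    have e1 : (⟨g * (e k : L) * g⁻¹, ‹jL.range.Normal›.conj_mem _ (e k).2 g⟩ : jL.range) = e k' :=
      Subtype.ext hk'.symm
    show (θ : K → ℂ) (e.symm _) = (θ : K → ℂ) (e.symm _)
    rw [e1, e.symm_apply_apply, e.symm_apply_apply, hθ]) (by rw [hφd]; exact hcop hdeg) (hcop hφo')
  have hηres : ∀ k, (η : L → ℂ) (jL k) = (θ : K → ℂ) k := fun k =>
    (hres (e k)).trans (congrArg (θ : K → ℂ) (e.symm_apply_apply k))
  refine ⟨η, hηres, fun g l => ?_, ?_, by rwa [hdo]⟩
  · let c : L →* L := (MulAut.conjNormal g).toMonoidHom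
    have h := huniq (fun x => (η : L → ℂ) (c x))
      (CT.isCharacter_comp c (CT.isCharacter_of_isIrr η.2)) (fun r => by
        obtain ⟨k, hk⟩ := r.2
        obtain rfl : e k = r := Subtype.ext hk
        obtain ⟨k', hk', hθ⟩ := hs g k
        have e1 : c (e k : L) = jL k' := Subtype.ext ((MulAut.conjNormal_apply g _).trans hk'.symm)
        rw [e1, hηres, hθ]
        exact (congrArg (θ : K → ℂ) (e.symm_apply_apply k)).symm)
      (hcop fun h => hφo' (hdo ▸ h.trans
        (RelCorr.detOrder_comp_dvd c (CT.isCharacter_of_isIrr η.2))))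
    rw [← congrFun h l]
    exact congrArg (η : L → ℂ) (Subtype.ext (MulAut.conjNormal_apply g l).symm)
  · intro h
    refine hdeg ?_
    have e1 : CT.deg (η : L → ℂ) = CT.deg (θ : K → ℂ) := by
      simp only [CT.deg]
      rw [← hηres 1, map_one]
    rwa [e1] at h

/-- A Casimir element of the restriction serves for the extension. -/
theorem cas_ext {L : Type u} [Group L] [Fintype L] {i : K →* L} {θ : Cfsg.IrrCharacter K}
    {η : Cfsg.IrrCharacter L} (hi : Function.Injective i) (hs : Stable i θ)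
    (hres : ∀ k, (η : L → ℂ) (i k) = (θ : K → ℂ) k) {c : K → K → ℂ}
    (hloc : ∀ k k', c k k' ∈ Loc M) (hc : Cas θ c) :
    ∃ cL : L → L → ℂ, (∀ l l', cL l l' ∈ Loc M) ∧ Cas η cL := by
  classical
  refine ⟨fun l l' => ∑ k, ∑ k', if i k = l ∧ i k' = l' then c k k' else 0, fun l l' => ?_,
    fun x y => ?_⟩
  · refine (Loc M).sum_mem fun k _ => (Loc M).sum_mem fun k' _ => ?_
    split_ifs
    exacts [hloc k k', (Loc M).zero_mem]
  obtain ⟨n, τ, hτirr, hτ⟩ := η.2
  let σ : Representation ℂ K (Fin n → ℂ) := τ.comp i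
  have hσc : σ.character = (θ : K → ℂ) := funext fun k => by rw [← hres k, ← hτ]; rfl
  haveI : σ.IsIrreducible := CT.isIrreducible_of_isIrrCharacter σ (by rw [hσc]; exact θ.2)
  have ho : Over i θ (η : L → ℂ) := by
    show Cfsg.classInner (fun k => (η : L → ℂ) (i k)) (θ : K → ℂ) ≠ 0
    rw [show (fun k => (η : L → ℂ) (i k)) = (θ : K → ℂ) from funext hres, CT.irr_inner_self θ.2]
    exact one_ne_zero
  have hf : ∀ z : L, Rep θ fun k => (η : L → ℂ) (z * i k) := fun z => by
    simpa using rep_of_over' hi hs ho z 1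
  have h1 := hc.bil (hf x) (hf y)
  refine Eq.trans ?_ (Eq.trans h1 ?_)
  · simp only [Finset.sum_mul]
    rw [Finset.sum_congr rfl fun l _ => Finset.sum_comm, Finset.sum_comm]
    refine Finset.sum_congr rfl fun k _ => ?_
    rw [Finset.sum_congr rfl fun l _ => Finset.sum_comm, Finset.sum_comm]
    refine Finset.sum_congr rfl fun k' _ => ?_
    rw [Finset.sum_eq_single (i k)
      (fun l _ hl => Finset.sum_eq_zero fun l' _ => by rw [if_neg fun h => hl h.1.symm]; simp)
      (by simp),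
      Finset.sum_eq_single (i k') (fun l' _ hl => by rw [if_neg fun h => hl h.2.symm]; simp)
      (by simp), if_pos ⟨rfl, rfl⟩]
  · have h2 : ∀ z w, (η : L → ℂ) (z * i w) = LinearMap.trace ℂ _ (τ z * σ w) := fun z w => by
      rw [← hτ]
      show LinearMap.trace ℂ _ (τ (z * i w)) = _
      rw [map_mul]
      rfl
    have hn : (θ : K → ℂ) 1 = n := by
      rw [← hσc, Representation.char_one, Module.finrank_fin_fun]
    have hn0 : (n : ℂ) ≠ 0 := hn ▸ CT.irr_one_ne_zero θ.2
    have h3 : (Nat.card K : ℂ) ≠ 0 := CT.card_ne_zero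
    simp only [pair, h2]
    rw [schur_trace σ (τ x) (τ y), ← map_mul, hn, ← hτ]
    show _ = LinearMap.trace ℂ _ (τ (x * y))
    field_simp

open Classical in
theorem step_power [hp : Fact p.Prime] (hM : Cfsg.IsPModular p M) {j : K →* G}
    {θ : Cfsg.IrrCharacter K} (hg : Good p M j θ) (L : Subgroup G) [hL : L.Normal] [Fintype L]
    (hle : j.range ≤ L) (hpow : ∃ n, j.range.relIndex L = p ^ n)
    (hrec : ∀ η : Cfsg.IrrCharacter L, Good p M L.subtype η → Claim p M L.subtype η) :
    Claim p M j θ := by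
  obtain ⟨hj, hs, hdeg, hdet, c, hloc, hc⟩ := hg
  obtain ⟨η, hηres, hηinv, hηdeg, hηdet⟩ := exists_stable_ext hj hs L hle hpow hdeg hdet
  let jL : K →* L := j.codRestrict L fun k => hle ⟨k, rfl⟩
  have hjL : Function.Injective jL := fun a b h => hj (congrArg Subtype.val h)
  have hsL : Stable jL θ := fun g k => by
    obtain ⟨k', hk', hθ⟩ := hs (g : G) k
    exact ⟨k', Subtype.ext hk', hθ⟩
  obtain ⟨cL, hcLloc, hcL⟩ := cas_ext (η := η) hjL hsL hηres hloc hc
  have hsη : Stable L.subtype η := fun g l =>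
    ⟨⟨g * l * g⁻¹, hL.conj_mem l l.2 g⟩, rfl, hηinv g l⟩
  have hclaim := hrec η ⟨L.subtype_injective, hsη, hηdeg, hηdet, cL, hcLloc, hcL⟩
  have hoL : Over jL θ (η : L → ℂ) := by
    show Cfsg.classInner (fun k => (η : L → ℂ) (jL k)) (θ : K → ℂ) ≠ 0
    rw [show (fun k => (η : L → ℂ) (jL k)) = (θ : K → ℂ) from funext hηres, CT.irr_inner_self θ.2]
    exact one_ne_zero
  have hup : ∀ χ : Cfsg.IrrCharacter G, Over L.subtype η (χ : G → ℂ) → Over j θ (χ : G → ℂ) :=
    fun χ h => (over_iff_of_constituent (i := jL) (l := L.subtype) hjL L.subtype_injective hsL hs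
      (ω := η) h).mpr hoL
  intro U hU hvan
  let U' : Set (Cfsg.IrrCharacter G) := {χ | Over L.subtype η (χ : G → ℂ)} ∩ U
  obtain ⟨a', ha'⟩ := hclaim U' (fun χ hχ => hχ.1) fun g hgs => by
    rw [← coeff_idemC,
      show idemC U' = emb L.subtype (eOf η) * idemC U by
        rw [emb_eOf_eq L.subtype_injective hsη, idemC_mul]]
    refine mul_coeff_eq_zero _ _ _ fun l => ?_
    rw [coeff_idemC]
    refine hvan _ fun m hm => hgs m ?_
    rw [Subgroup.range_subtype]
    have h1 : (((l : G)⁻¹ * g) ^ m : G) ∈ L := hle hm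
    rw [← QuotientGroup.eq_one_iff, QuotientGroup.mk_pow, QuotientGroup.mk_mul,
      (QuotientGroup.eq_one_iff ((l : G)⁻¹)).mpr (inv_mem l.2), one_mul, ← QuotientGroup.mk_pow,
      QuotientGroup.eq_one_iff] at h1
    exact h1
  obtain ⟨ε, hε, hεacts⟩ := exists_idem_of_acts hM a'
  have hεη : ∀ χ : Cfsg.IrrCharacter G, Over L.subtype η (χ : G → ℂ) →
      Acts (χ : G → ℂ) (toC M G ε) (if χ ∈ U then 1 else 0) := by
    intro χ h
    have h' := ha' χ h
    by_cases hχ : χ ∈ U
    · rw [if_pos hχ]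
      rw [if_pos (show χ ∈ U' from ⟨h, hχ⟩)] at h'
      exact (hεacts χ).2 h'
    · rw [if_neg hχ]
      rw [if_neg (fun h'' : χ ∈ U' => hχ h''.2)] at h'
      exact (hεacts χ).1 h'
  let d : Cfsg.IrrCharacter G → ℂ := fun χ => if Over j θ (χ : G → ℂ) then
    ev (χ : G → ℂ) (toC M G ε) - (if χ ∈ U then 1 else 0) * (χ : G → ℂ) 1 else 0
  let D : G → ℂ := fun g => ∑ χ, d χ * (χ : G → ℂ) g
  have hDcl : Cfsg.IsClassFunction G D := fun g x => by
    simp only [D, fun χ : Cfsg.IrrCharacter G => CT.isClassFunction_of_isIrr χ.2 g x]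
  have hevD : ∀ b : MonoidAlgebra ℂ G, ev D b = ∑ χ, d χ * ev (χ : G → ℂ) b := fun b => by
    simp only [D, ev_eq_sum, Finset.mul_sum]
    rw [Finset.sum_comm]
    exact Finset.sum_congr rfl fun χ _ => Finset.sum_congr rfl fun u _ => by ring
  have hD0 : D = 0 := by
    funext g
    have hsing : ∀ g, Sing p j.range g → D g = 0 := by
      intro g hgs
      have h1 := sum_over_eq_zero hM hj hs hε hgs
      have hgi : Sing p j.range g⁻¹ := fun m hm => hgs m (by simpa using inv_mem hm)
      have h2 : ∑ χ : Cfsg.IrrCharacter G,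
          (if χ ∈ U then (χ : G → ℂ) 1 * (χ : G → ℂ) g else 0) = 0 := by
        have h3 := hvan _ hgi
        rw [Cfsg.blockCoeff, mul_eq_zero, finsum_mem_irr] at h3
        have h4 := h3.resolve_left (inv_ne_zero CT.card_ne_zero)
        refine Eq.trans (Finset.sum_congr rfl fun χ _ => ?_) h4
        rw [CT.char_inv_eq_conj (CT.isCharacter_of_isIrr χ.2), Complex.conj_conj]
      show ∑ χ, d χ * (χ : G → ℂ) g = 0
      calc ∑ χ, d χ * (χ : G → ℂ) g
          = ∑ χ : Cfsg.IrrCharacter G, ((if Over j θ (χ : G → ℂ) then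
              ev (χ : G → ℂ) (toC M G ε) else 0) * (χ : G → ℂ) g -
              if χ ∈ U then (χ : G → ℂ) 1 * (χ : G → ℂ) g else 0) := by
            refine Finset.sum_congr rfl fun χ _ => ?_
            simp only [d]
            by_cases ho : Over j θ (χ : G → ℂ)
            · rw [if_pos ho, if_pos ho]
              split_ifs <;> ring
            · rw [if_neg ho, if_neg ho, if_neg fun h => ho (hU χ h)]
              ring
        _ = 0 := by rw [Finset.sum_sub_distrib, h1, h2, sub_zero]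
    by_cases hgs : Sing p j.range g
    · exact hsing g hgs
    refine regular_eq_zero hj hs L hle hpow η hηinv hηres hDcl (fun x k => ?_) (fun b => ?_)
      hsing hgs
    · simp only [D, Finset.mul_sum]
      rw [Finset.sum_comm]
      refine Finset.sum_congr rfl fun χ _ => ?_
      by_cases ho : Over j θ (χ : G → ℂ)
      · have h := rep_of_over' hj hs ho x 1 k
        simp only [mul_one] at h
        rw [← h, Finset.mul_sum]
        exact Finset.sum_congr rfl fun z _ => by ring
      · simp only [d, if_neg ho, zero_mul, mul_zero, Finset.sum_const_zero]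
    · rw [hevD]
      refine Finset.sum_eq_zero fun χ _ => ?_
      rw [acts_eOf L.subtype_injective hsη χ b]
      by_cases ho : Over L.subtype η (χ : G → ℂ)
      · simp only [d, if_pos (hup χ ho), (hεη χ ho).ev_eq, sub_self, zero_mul]
      · rw [if_neg ho, zero_mul, mul_zero]
  have hd : ∀ χ, d χ = 0 := by
    intro χ
    have h1 : Cfsg.classInner D (χ : G → ℂ) = d χ := by
      rw [show D = ∑ ψ : Cfsg.IrrCharacter G, d ψ • (ψ : G → ℂ) from funext fun g => by
        simp [D, Finset.sum_apply], CT.classInner_sum_left]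
      simp only [CT.classInner_smul_left, CT.irr_inner_subtype]
      rw [Finset.sum_eq_single χ (fun b _ hb => by rw [if_neg hb, mul_zero]) (by simp), if_pos rfl,
        mul_one]
    rw [← h1, hD0]
    simp [Cfsg.classInner]
  refine ⟨ε, fun χ ho => ?_⟩
  have h := hd χ
  simp only [d, if_pos ho, sub_eq_zero] at h
  have hidem : toC M G ε * toC M G ε = toC M G ε := by rw [← map_mul, hε]
  by_cases hχ : χ ∈ U
  · rw [if_pos hχ, one_mul] at h
    rw [if_pos hχ]
    exact acts_one_of_idem (CT.isCharacter_of_isIrr χ.2) hidem h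
  · rw [if_neg hχ, zero_mul] at h
    rw [if_neg hχ]
    exact acts_zero_of_idem (CT.isCharacter_of_isIrr χ.2) hidem h

end Cfsg.Agent.RelUnion
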