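import Cfsg.Agent.Lib.Blocks.RelUnion.Over
import Cfsg.Agent.Lib.CT.CliffordLe

/-!
# Going up through a normal section of order prime to `p`
-/

set_option autoImplicit false
set_option linter.unusedSectionVars false
set_option linter.style.haveILetI false

namespace Cfsg.Agent.RelUnion

open Cfsg.Agent Blocks MonoidAlgebra
open scoped ComplexConjugate

universe u

variable {G K : Type u} [Group G] [Fintype G] [Group K] [Fintype K]

/-- Singular modulo a subgroup. -/
def Sing (p : ℕ) (R : Subgroup G) (g : G) : Prop := ∀ m : ℕ, g ^ m ∈ R → p ∣ m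

/-- The hypotheses on the stable character. -/
structure Good (p : ℕ) (M : Ideal Cfsg.AlgInt) [M.IsPrime] (j : K →* G)
    (θ : Cfsg.IrrCharacter K) : Prop where
  inj : Function.Injective j
  stable : Stable j θ
  deg : ¬ p ∣ CT.deg (θ : K → ℂ)
  det : ¬ p ∣ Cfsg.detOrder (θ : K → ℂ)
  cas : ∃ c : K → K → ℂ, (∀ k k', c k k' ∈ Loc M) ∧ Cas θ c

open Classical in
/-- The sets over `θ` vanishing at singular elements are cut out over the local ring. -/
def Claim (p : ℕ) (M : Ideal Cfsg.AlgInt) [M.IsPrime] (j : K →* G) (θ : Cfsg.IrrCharacter K) :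
    Prop :=
  ∀ U : Set (Cfsg.IrrCharacter G), (∀ χ ∈ U, Over j θ (χ : G → ℂ)) →
    (∀ g, Sing p j.range g → Cfsg.blockCoeff U g = 0) →
    ∃ a : MonoidAlgebra (Loc M) G, ∀ χ : Cfsg.IrrCharacter G, Over j θ (χ : G → ℂ) →
      Acts (χ : G → ℂ) (toC M G a) (if χ ∈ U then 1 else 0)

theorem coeff_idemC (U : Set (Cfsg.IrrCharacter G)) (g : G) :
    (idemC U).coeff g = Cfsg.blockCoeff U g := rfl

open Classical in
theorem idemC_add_diff (A B : Set (Cfsg.IrrCharacter G)) :
    idemC A = idemC (A ∩ B) + idemC (A \ B) := by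
  refine ext_ev fun χ b => ?_
  rw [mul_add, ev_add, acts_idemC A b, acts_idemC (A ∩ B) b, acts_idemC (A \ B) b]
  by_cases hA : χ ∈ A <;> by_cases hB : χ ∈ B <;> simp [hA, hB]

theorem acts_zero_of_no_constituent {T : Subgroup G} [Fintype T] (D : Set (Cfsg.IrrCharacter T))
    {χ : G → ℂ} (hχ : Cfsg.IsCharacter G χ)
    (h : ∀ ω ∈ D, Cfsg.classInner (fun t : T => χ t) (ω : T → ℂ) = 0) :
    Acts χ (emb T.subtype (idemC D)) 0 := by
  classical
  refine acts_zero_of_idem hχ (by rw [← map_mul, idemC_mul_self]) ?_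
  have hres := CT.isCharacter_restrict T hχ
  rw [ev_emb]
  conv_lhs => rw [show (fun k : T => χ (T.subtype k)) = fun k : T => χ k from rfl,
    CT.character_eq_sum hres, ev_sum_smul_fun]
  refine Finset.sum_eq_zero fun ω _ => ?_
  by_cases hω : ω ∈ D
  · have h0 := h ω hω
    rw [CT.mult_spec hres (CT.isCharacter_of_isIrr ω.2)] at h0
    rw [h0, zero_mul]
  · rw [Acts.ev_eq (acts_idemC D), if_neg hω, zero_mul, mul_zero]

open Classical in
/-- The coefficient of a product with an element carried by a normal subgroup. -/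
theorem mul_coeff_eq_zero {L : Subgroup G} (a : MonoidAlgebra ℂ L) (b : MonoidAlgebra ℂ G) (g : G)
    (h : ∀ l : L, b.coeff ((l : G)⁻¹ * g) = 0) : (emb L.subtype a * b).coeff g = 0 := by
  rw [coeff_mul_sum]
  refine Finset.sum_eq_zero fun u _ => ?_
  by_cases hu : u ∈ L
  · rw [h ⟨u, hu⟩, mul_zero]
  · rw [coeff_emb_of_notMem L.subtype a fun l hl => hu (by rw [← hl]; exact l.2), zero_mul]

theorem sing_of_sing {p : ℕ} {R L T : Subgroup G} [L.Normal] (hRL : R ≤ L) (hLT : L ≤ T) {g : T}
    (hg : Sing p (Subgroup.inclusion hLT).range g) (l : L) :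
    Sing p R ((l : G)⁻¹ * (g : G)) := by
  intro m hm
  refine hg m ?_
  have h1 : (((l : G)⁻¹ * (g : G)) ^ m : G) ∈ L := hRL hm
  rw [← QuotientGroup.eq_one_iff, QuotientGroup.mk_pow, QuotientGroup.mk_mul,
    (QuotientGroup.eq_one_iff ((l : G)⁻¹)).mpr (inv_mem l.2), one_mul, ← QuotientGroup.mk_pow,
    QuotientGroup.eq_one_iff] at h1
  exact ⟨⟨_, h1⟩, Subtype.ext rfl⟩

variable {p : ℕ} {M : Ideal Cfsg.AlgInt} [M.IsPrime]

open Classical in
theorem step_prime (hM : Cfsg.IsPModular p M) {j : K →* G} {θ : Cfsg.IrrCharacter K}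
    (hg : Good p M j θ) (L : Subgroup G) [hL : L.Normal] [Fintype L] (hle : j.range ≤ L)
    (hidx : ¬ p ∣ j.range.relIndex L)
    (hrec : ∀ (η : Cfsg.IrrCharacter L) (hT : L ≤ CT.inertia L (η : L → ℂ)),
      Good p M (Subgroup.inclusion hT) η → Claim p M (Subgroup.inclusion hT) η) :
    Claim p M j θ := by
  obtain ⟨hj, hs, hdeg, hdet, c, hloc, hc⟩ := hg
  let jL : K →* L := j.codRestrict L fun k => hle ⟨k, rfl⟩
  have hjL : Function.Injective jL := fun a b h => hj (congrArg Subtype.val h)
  have hcomp : L.subtype.comp jL = j := rfl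
  have hsL : Stable jL θ := fun g k => by
    obtain ⟨k', hk', hθ⟩ := hs (g : G) k
    exact ⟨k', Subtype.ext hk', hθ⟩
  have hrange : jL.range = j.range.subgroupOf L := by
    ext x
    simp only [MonoidHom.mem_range, Subgroup.mem_subgroupOf]
    exact exists_congr fun k => ⟨congrArg Subtype.val, fun h => Subtype.ext h⟩
  have hidx' : ¬ p ∣ jL.range.index := by rwa [hrange]
  intro U hU hvan
  let S : Finset (Cfsg.IrrCharacter L) := Finset.univ.filter fun η => Over jL θ (η : L → ℂ)
  have hterm : ∀ η ∈ S, ∃ a : MonoidAlgebra (Loc M) G, ∀ χ : Cfsg.IrrCharacter G,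
      Over j θ (χ : G → ℂ) → ∀ b, ev (χ : G → ℂ) (b * toC M G a) =
        (if χ ∈ U then 1 else 0) * ev (χ : G → ℂ) (b * emb L.subtype (eOf η)) := by
    intro η hη
    have hover : Over jL θ (η : L → ℂ) := (Finset.mem_filter.mp hη).2
    obtain ⟨hηdeg, hηdet⟩ := over_degree_det hM.1 hjL hsL hover hdeg hdet hidx'
    obtain ⟨cL, hcLloc, hcL, hbil⟩ := cas_over hM hjL hsL hover hdeg hidx' hloc hc
    set T := CT.inertia L (η : L → ℂ) with hTdef
    have hLT : L ≤ T := CT.le_inertia L (CT.isClassFunction_of_isIrr η.2)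
    haveI := Fintype.ofFinite T
    let i : L →* T := Subgroup.inclusion hLT
    have hi : Function.Injective i := Subgroup.inclusion_injective hLT
    have hsi : Stable i η := fun t l =>
      ⟨⟨(t : G) * l * (t : G)⁻¹, hL.conj_mem (l : G) l.2 t⟩, Subtype.ext rfl,
        CT.mem_inertia_iff L |>.mp t.2 l⟩
    have hclaim := hrec η hLT ⟨hi, hsi, hηdeg, hηdet, cL, hcLloc, hcL⟩
    let Uη : Set (Cfsg.IrrCharacter T) := {ω | Over i η (ω : T → ℂ) ∧
      ∃ χ ∈ U, Cfsg.classInner (fun t : T => (χ : G → ℂ) t) (ω : T → ℂ) ≠ 0}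
    have hY : emb L.subtype (eOf η) =
        emb T.subtype (idemC {ω : Cfsg.IrrCharacter T | Over i η (ω : T → ℂ)}) := by
      rw [← emb_eOf_eq hi hsi, emb_emb]
      rfl
    have hXY : emb T.subtype (idemC Uη) = emb L.subtype (eOf η) * idemC U := by
      refine ext_ev fun χ b => ?_
      rw [← mul_assoc, acts_idemC U (b * emb L.subtype (eOf η))]
      by_cases hχ : χ ∈ U
      · rw [if_pos hχ, one_mul, hY,
          idemC_add_diff {ω : Cfsg.IrrCharacter T | Over i η (ω : T → ℂ)} Uη,
          show {ω : Cfsg.IrrCharacter T | Over i η (ω : T → ℂ)} ∩ Uη = Uη from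
            Set.inter_eq_right.mpr fun ω hω => hω.1, map_add, mul_add, ev_add,
          acts_zero_of_no_constituent ({ω : Cfsg.IrrCharacter T | Over i η (ω : T → ℂ)} \ Uη)
            (CT.isCharacter_of_isIrr χ.2) (fun ω hω => by
              by_contra hne
              exact hω.2 ⟨hω.1, χ, hχ, hne⟩) b, zero_mul, add_zero]
      · rw [if_neg hχ, zero_mul,
          acts_zero_of_no_constituent Uη (CT.isCharacter_of_isIrr χ.2) (fun ω hω => by
            obtain ⟨ho, χ', hχ', hne'⟩ := hω
            by_contra hne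
            obtain ⟨hirr, -⟩ := CT.isIrr_indFun_of_over_le L η.2 T le_rfl hLT ω.2 ho
            have key : ∀ ψ : Cfsg.IrrCharacter G,
                Cfsg.classInner (fun t : T => (ψ : G → ℂ) t) (ω : T → ℂ) ≠ 0 →
                  Cfsg.indFun T (ω : T → ℂ) = (ψ : G → ℂ) := fun ψ h => by
              refine CT.eq_of_inner_ne_zero hirr ψ.2 ?_
              rw [CT.frobenius_reciprocity T _ (CT.isClassFunction_of_isIrr ψ.2),
                CT.classInner_comm_of_char (CT.isCharacter_of_isIrr ω.2)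
                  (CT.isCharacter_restrict T (CT.isCharacter_of_isIrr ψ.2))]
              exact h
            exact hχ ((Subtype.ext ((key χ' hne').symm.trans (key χ hne)) : χ' = χ) ▸ hχ')) b,
          zero_mul]
    have hvanT : ∀ g : T, Sing p i.range g → Cfsg.blockCoeff Uη g = 0 := by
      intro g hgs
      rw [← coeff_idemC, ← coeff_emb T.subtype_injective, hXY]
      exact mul_coeff_eq_zero _ _ _ fun l => by
        rw [coeff_idemC]
        exact hvan _ (sing_of_sing hle hLT hgs l)
    obtain ⟨aη, haη⟩ := hclaim Uη (fun ω hω => hω.1) hvanT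
    have heU : emb i (eOf η) * toC M T aη = idemC Uη := by
      refine ext_ev fun ω b => ?_
      rw [acts_idemC Uη b]
      by_cases ho : Over i η (ω : T → ℂ)
      · rw [((acts_eOf_of_over hi hsi ho).mul (haη ω ho)) b, one_mul]
        split_ifs <;> rfl
      · have h0 := acts_eOf hi hsi ω
        rw [if_neg ho] at h0
        rw [if_neg (fun h => ho h.1), ← mul_assoc, ev_mul_comm (isClassFn_irr ω), ← mul_assoc,
          h0 (toC M T aη * b), zero_mul, zero_mul]
    let Z : L → Loc M := fun l' => ∑ l, ⟨cL l l', hcLloc l l'⟩ * charL M η l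
    refine ⟨emb L.subtype (ofFun Z) * emb T.subtype aη, fun χ ho b => ?_⟩
    have hc' := isClassFn_irr χ
    have hz : ∀ b' : MonoidAlgebra ℂ G, ev (χ : G → ℂ) (b' * emb L.subtype (toC M L (ofFun Z))) =
        ev (χ : G → ℂ) (b' * emb L.subtype (eOf η)) := by
      intro b'
      rw [ev_mul_emb, ev_mul_emb]
      have hb := hbil (fun l => (η : L → ℂ) l)
        (fun l : L => ev (χ : G → ℂ) (b' * single (l : G) 1))
        (fun s => by simpa using rep_of_over' hjL hsL hover 1 s) (fun s => by
          have := rep_of_over hj hs ho (b' * single (s : G) 1)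
          simpa [mul_assoc, single_mul_single, jL] using this)
      rw [pair, Finset.mul_sum, Finset.sum_comm] at hb
      refine Eq.trans (Finset.sum_congr rfl fun l' _ => ?_) (hb.trans
        (Finset.sum_congr rfl fun l _ => ?_))
      · rw [coeff_map', coeff_ofFun]
        simp only [Z, map_sum, map_mul, Finset.sum_mul]
        exact Finset.sum_congr rfl fun l _ => rfl
      · rw [coeff_eOf]
        simp only [Subgroup.coe_subtype]
        ring
    have hT' : emb L.subtype (eOf η) * emb T.subtype (toC M T aη) =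
        emb T.subtype (idemC Uη) := by
      rw [← heU, map_mul, emb_emb]
      rfl
    rw [map_mul, show toC M G (emb L.subtype (ofFun Z)) = emb L.subtype (toC M L (ofFun Z)) from
        map_emb _ _ _, show toC M G (emb T.subtype aη) = emb T.subtype (toC M T aη) from
        map_emb _ _ _, ← mul_assoc, ev_mul_comm hc', ← mul_assoc, hz, mul_assoc, ev_mul_comm hc',
      mul_assoc, hT', hXY, ← mul_assoc, acts_idemC U (b * emb L.subtype (eOf η))]
  choose a ha using hterm
  refine ⟨∑ η : S, a η η.2, fun χ ho b => ?_⟩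
  have hsum : ∑ η ∈ S, idemC ({η} : Set (Cfsg.IrrCharacter L)) = emb jL (eOf θ) := by
    refine ext_ev fun η b => ?_
    rw [Finset.mul_sum, ev_sum, Finset.sum_congr rfl fun ξ _ => acts_idemC {ξ} b,
      acts_eOf hjL hsL η b, ← Finset.sum_mul]
    congr 1
    simp [S]
  rw [map_sum, Finset.mul_sum, ev_sum, Finset.sum_congr rfl fun (η : S) _ => ha η η.2 χ ho b,
    ← Finset.mul_sum]
  congr 1
  have h1 : ∑ η : S, ev (χ : G → ℂ) (b * emb L.subtype (eOf (η : Cfsg.IrrCharacter L))) =
      ev (χ : G → ℂ) (b * emb j (eOf θ)) := by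
    rw [Finset.sum_coe_sort S fun η => ev (χ : G → ℂ) (b * emb L.subtype (eOf η)), ← ev_sum,
      ← Finset.mul_sum, ← map_sum, hsum, emb_emb, hcomp]
  rw [h1, acts_eOf_of_over hj hs ho b, one_mul]

end Cfsg.Agent.RelUnion
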